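import Mathlib

/-!
# S0892, piece A: Carmichael's bound

If `y 2, …, y (n-1)` satisfy `y i ^ 3 = 1` and `(y i * y j) ^ 2 = 1` (`i ≠ j`), the subgroup they
generate has order at most `n! / 2`.  Induction on `n` with the coset representatives
`1, c, c², c² y_i` (`c = y n`).
-/

set_option autoImplicit false

namespace Cfsg.Agent.S0892L

section identities

variable {K : Type*} [Group K]

theorem A_sq_eq_inv {a : K} (ha : a ^ 3 = 1) : a ^ 2 = a⁻¹ :=
  eq_inv_of_mul_eq_one_left (by rw [← pow_succ]; exact ha)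

theorem A_mul_self_eq_inv {a : K} (ha : a ^ 3 = 1) : a * a = a⁻¹ := by
  rw [← pow_two]; exact A_sq_eq_inv ha

theorem A_inv_eq_self {x : K} (hx : x ^ 2 = 1) : x⁻¹ = x := by
  have : x * x = 1 := by rw [← pow_two]; exact hx
  exact (eq_inv_of_mul_eq_one_left this).symm

/-- `c * y = y⁻¹ * c²` -/
theorem A_i4 {a d : K} (ha : a ^ 3 = 1) (had : (a * d) ^ 2 = 1) : a * d = d⁻¹ * a ^ 2 := by
  calc a * d = (a * d)⁻¹ := (A_inv_eq_self had).symm
    _ = d⁻¹ * a⁻¹ := by rw [mul_inv_rev]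
    _ = d⁻¹ * a ^ 2 := by rw [A_sq_eq_inv ha]

/-- `(c² y) y = y c` -/
theorem A_i7 {a b : K} (ha : a ^ 3 = 1) (hb : b ^ 3 = 1) (hba : (b * a) ^ 2 = 1) :
    a ^ 2 * b * b = b * a := by
  calc a ^ 2 * b * b = a⁻¹ * (b * b) := by rw [A_sq_eq_inv ha, mul_assoc]
    _ = a⁻¹ * b⁻¹ := by rw [A_mul_self_eq_inv hb]
    _ = (b * a)⁻¹ := by rw [mul_inv_rev]
    _ = b * a := A_inv_eq_self hba

/-- `(c² y) c = y⁻¹ (c² y)` -/
theorem A_i8 {a b : K} (ha : a ^ 3 = 1) (hb : b ^ 3 = 1) (hab : (a * b) ^ 2 = 1)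
    (hba : (b * a) ^ 2 = 1) : a ^ 2 * b * a = b⁻¹ * (a ^ 2 * b) := by
  have h1 : a ^ 2 * b * a = a * b⁻¹ := by
    calc a ^ 2 * b * a = a⁻¹ * (b * a) := by rw [A_sq_eq_inv ha, mul_assoc]
      _ = a⁻¹ * (b * a)⁻¹ := by rw [A_inv_eq_self hba]
      _ = a⁻¹ * (a⁻¹ * b⁻¹) := by rw [mul_inv_rev]
      _ = (a * a)⁻¹ * b⁻¹ := by rw [mul_inv_rev, mul_assoc]
      _ = a * b⁻¹ := by rw [A_mul_self_eq_inv ha, inv_inv]
  have h2 : b⁻¹ * (a ^ 2 * b) = a * b⁻¹ := by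
    calc b⁻¹ * (a ^ 2 * b) = (b⁻¹ * a⁻¹) * b := by rw [A_sq_eq_inv ha, mul_assoc]
      _ = (a * b)⁻¹ * b := by rw [mul_inv_rev]
      _ = a * b * b := by rw [A_inv_eq_self hab]
      _ = a * (b * b) := by rw [mul_assoc]
      _ = a * b⁻¹ := by rw [A_mul_self_eq_inv hb]
  rw [h1, h2]

/-- `(c² y_i) y_j = (y_j y_i⁻¹) (c² y_i)` -/
theorem A_i9 {a b d : K} (ha : a ^ 3 = 1) (hb : b ^ 3 = 1) (hab : (a * b) ^ 2 = 1)
    (hda : (d * a) ^ 2 = 1) (hbd : (b * d) ^ 2 = 1) :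
    a ^ 2 * b * d = d * b⁻¹ * (a ^ 2 * b) := by
  have h1 : a ^ 2 * b * d = a⁻¹ * (b * d) := by rw [A_sq_eq_inv ha, mul_assoc]
  have h2 : d * b⁻¹ * (a ^ 2 * b) = a⁻¹ * (b * d) := by
    calc d * b⁻¹ * (a ^ 2 * b) = d * ((b⁻¹ * a⁻¹) * b) := by
          rw [A_sq_eq_inv ha, mul_assoc, mul_assoc]
      _ = d * ((a * b)⁻¹ * b) := by rw [mul_inv_rev]
      _ = d * (a * b * b) := by rw [A_inv_eq_self hab]
      _ = d * (a * (b * b)) := by rw [mul_assoc a b b]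
      _ = d * (a * b⁻¹) := by rw [A_mul_self_eq_inv hb]
      _ = (d * a) * b⁻¹ := by rw [mul_assoc]
      _ = (d * a)⁻¹ * b⁻¹ := by rw [A_inv_eq_self hda]
      _ = a⁻¹ * d⁻¹ * b⁻¹ := by rw [mul_inv_rev]
      _ = a⁻¹ * (b * d)⁻¹ := by rw [mul_inv_rev, mul_assoc]
      _ = a⁻¹ * (b * d) := by rw [A_inv_eq_self hbd]
  rw [h1, h2]

end identities

/-- the inductive step: adjoining `y n` multiplies the order by at most `n + 1` -/
theorem A_step {K : Type*} [Group K] [Finite K] (y : ℕ → K) (n : ℕ) (hn : 2 ≤ n)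
    (h3 : ∀ i, 2 ≤ i → i < n + 1 → y i ^ 3 = 1)
    (h2 : ∀ i j, 2 ≤ i → i < n + 1 → 2 ≤ j → j < n + 1 → i ≠ j → (y i * y j) ^ 2 = 1) :
    Nat.card ↥(Subgroup.closure {k : K | ∃ i, 2 ≤ i ∧ i < n + 1 ∧ k = y i}) ≤
      Nat.card ↥(Subgroup.closure {k : K | ∃ i, 2 ≤ i ∧ i < n ∧ k = y i}) * (n + 1) := by
  classical
  set H : Subgroup K := Subgroup.closure {k : K | ∃ i, 2 ≤ i ∧ i < n ∧ k = y i} with hH
  have hc3 : y n ^ 3 = 1 := h3 n hn (Nat.lt_succ_self n)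
  have hyH : ∀ i, 2 ≤ i → i < n → y i ∈ H := fun i hi hin =>
    Subgroup.subset_closure ⟨i, hi, hin, rfl⟩
  let R : Finset K := insert 1 (insert (y n) (insert (y n ^ 2)
    ((Finset.Ico 2 n).image (fun i => y n ^ 2 * y i))))
  have hR1 : (1 : K) ∈ R := Finset.mem_insert_self _ _
  have hRc : y n ∈ R := Finset.mem_insert_of_mem (Finset.mem_insert_self _ _)
  have hRc2 : y n ^ 2 ∈ R :=
    Finset.mem_insert_of_mem (Finset.mem_insert_of_mem (Finset.mem_insert_self _ _))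
  have hRi : ∀ i, 2 ≤ i → i < n → y n ^ 2 * y i ∈ R := fun i hi hin =>
    Finset.mem_insert_of_mem (Finset.mem_insert_of_mem (Finset.mem_insert_of_mem
      (Finset.mem_image.2 ⟨i, Finset.mem_Ico.2 ⟨hi, hin⟩, rfl⟩)))
  have hRcard : R.card ≤ n + 1 := by
    have h1 : ((Finset.Ico 2 n).image (fun i => y n ^ 2 * y i)).card ≤ n - 2 := by
      refine le_trans Finset.card_image_le ?_
      simp
    calc R.card ≤ ((Finset.Ico 2 n).image (fun i => y n ^ 2 * y i)).card + 1 + 1 + 1 := by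
          refine le_trans (Finset.card_insert_le _ _) ?_
          refine Nat.succ_le_succ ?_
          refine le_trans (Finset.card_insert_le _ _) ?_
          refine Nat.succ_le_succ ?_
          exact Finset.card_insert_le _ _
      _ ≤ n + 1 := by omega
  -- the set `H * R`
  let T : Set K := {x | ∃ h ∈ H, ∃ r ∈ R, x = h * r}
  have hT1 : (1 : K) ∈ T := ⟨1, H.one_mem, 1, hR1, by simp⟩
  -- closed under right multiplication by generators
  have hTmul : ∀ x ∈ T, ∀ j, 2 ≤ j → j < n + 1 → x * y j ∈ T := by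
    rintro x ⟨h, hh, r, hr, rfl⟩ j hj hjn
    simp only [R, Finset.mem_insert, Finset.mem_image, Finset.mem_Ico] at hr
    rcases Nat.lt_succ_iff_lt_or_eq.1 hjn with hjn' | rfl
    · -- `j < n`
      have hjH := hyH j hj hjn'
      have hj3 := h3 j hj hjn
      have hcj : (y n * y j) ^ 2 = 1 := h2 n j hn (Nat.lt_succ_self n) hj hjn (by omega)
      have hjc : (y j * y n) ^ 2 = 1 := h2 j n hj hjn hn (Nat.lt_succ_self n) (by omega)
      rcases hr with rfl | rfl | rfl | ⟨i, ⟨hi, hin⟩, rfl⟩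
      · exact ⟨h * y j, H.mul_mem hh hjH, 1, hR1, by simp⟩
      · refine ⟨h * (y j)⁻¹, H.mul_mem hh (H.inv_mem hjH), y n ^ 2, hRc2, ?_⟩
        rw [mul_assoc h (y n) (y j), A_i4 hc3 hcj, ← mul_assoc h]
      · exact ⟨h, hh, y n ^ 2 * y j, hRi j hj hjn', by rw [mul_assoc]⟩
      · have hi3 := h3 i hi (by omega)
        have hci : (y n * y i) ^ 2 = 1 := h2 n i hn (Nat.lt_succ_self n) hi (by omega) (by omega)
        have hic : (y i * y n) ^ 2 = 1 := h2 i n hi (by omega) hn (Nat.lt_succ_self n) (by omega)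
        by_cases hij : j = i
        · subst hij
          refine ⟨h * y j, H.mul_mem hh hjH, y n, hRc, ?_⟩
          rw [mul_assoc h _ (y j), A_i7 hc3 hj3 hjc, ← mul_assoc h]
        · have hbd : (y i * y j) ^ 2 = 1 := h2 i j hi (by omega) hj hjn (fun e => hij e.symm)
          refine ⟨h * (y j * (y i)⁻¹), H.mul_mem hh (H.mul_mem hjH (H.inv_mem (hyH i hi hin))),
            y n ^ 2 * y i, hRi i hi hin, ?_⟩
          rw [mul_assoc h _ (y j), A_i9 hc3 hi3 hci hjc hbd, ← mul_assoc h]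
    · -- `j = n`
      rcases hr with rfl | rfl | rfl | ⟨i, ⟨hi, hin⟩, rfl⟩
      · exact ⟨h, hh, y j, hRc, by simp⟩
      · exact ⟨h, hh, y j ^ 2, hRc2, by rw [mul_assoc, pow_two]⟩
      · refine ⟨h, hh, 1, hR1, ?_⟩
        rw [mul_assoc, ← pow_succ, hc3]
      · have hi3 := h3 i hi (by omega)
        have hci : (y j * y i) ^ 2 = 1 := h2 j i hn (Nat.lt_succ_self j) hi (by omega) (by omega)
        have hic : (y i * y j) ^ 2 = 1 := h2 i j hi (by omega) hn (Nat.lt_succ_self j) (by omega)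
        refine ⟨h * (y i)⁻¹, H.mul_mem hh (H.inv_mem (hyH i hi hin)), y j ^ 2 * y i,
          hRi i hi hin, ?_⟩
        rw [mul_assoc h _ (y j), A_i8 hc3 hi3 hci hic, ← mul_assoc h]
  -- hence the new closure lies in `T`
  have hsub : ((Subgroup.closure {k : K | ∃ i, 2 ≤ i ∧ i < n + 1 ∧ k = y i} : Subgroup K) : Set K)
      ⊆ T := by
    intro x hx
    refine Subgroup.closure_induction_right (p := fun x _ => x ∈ T) hT1 ?_ ?_ hx
    · rintro x _ _ ⟨j, hj, hjn, rfl⟩ hxT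
      exact hTmul x hxT j hj hjn
    · rintro x _ _ ⟨j, hj, hjn, rfl⟩ hxT
      have : (y j)⁻¹ = y j * y j := (A_mul_self_eq_inv (h3 j hj hjn)).symm
      rw [this, ← mul_assoc]
      exact hTmul _ (hTmul x hxT j hj hjn) j hj hjn
  -- count
  have hTsub : T ⊆ (fun p : K × K => p.1 * p.2) '' ((H : Set K) ×ˢ (R : Set K)) := by
    rintro x ⟨h, hh, r, hr, rfl⟩
    exact ⟨(h, r), ⟨hh, hr⟩, rfl⟩
  have hfin : ((fun p : K × K => p.1 * p.2) '' ((H : Set K) ×ˢ (R : Set K))).Finite :=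
    Set.toFinite _
  calc Nat.card ↥(Subgroup.closure {k : K | ∃ i, 2 ≤ i ∧ i < n + 1 ∧ k = y i})
      = ((Subgroup.closure {k : K | ∃ i, 2 ≤ i ∧ i < n + 1 ∧ k = y i} : Subgroup K) :
          Set K).ncard := by
        rfl
    _ ≤ ((fun p : K × K => p.1 * p.2) '' ((H : Set K) ×ˢ (R : Set K))).ncard :=
        Set.ncard_le_ncard (hsub.trans hTsub) hfin
    _ ≤ ((H : Set K) ×ˢ (R : Set K)).ncard := Set.ncard_image_le (Set.toFinite _)
    _ = (H : Set K).ncard * (R : Set K).ncard := Set.ncard_prod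
    _ = Nat.card ↥H * R.card := by
        rw [Set.ncard_coe_finset]
        rfl
    _ ≤ Nat.card ↥H * (n + 1) := Nat.mul_le_mul_left _ hRcard

theorem carmichael_bound {K : Type*} [Group K] [Finite K] (y : ℕ → K) (n : ℕ) (hn : 2 ≤ n)
    (h3 : ∀ i, 2 ≤ i → i < n → y i ^ 3 = 1)
    (h2 : ∀ i j, 2 ≤ i → i < n → 2 ≤ j → j < n → i ≠ j → (y i * y j) ^ 2 = 1) :
    Nat.card ↥(Subgroup.closure {k : K | ∃ i, 2 ≤ i ∧ i < n ∧ k = y i}) ≤ n.factorial / 2 := by
  induction n, hn using Nat.le_induction with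
  | base =>
    have : {k : K | ∃ i, 2 ≤ i ∧ i < 2 ∧ k = y i} = ∅ := by
      ext k
      simp only [Set.mem_ofPred_eq, Set.mem_empty_iff_false, iff_false]
      rintro ⟨i, h1, h2', _⟩
      omega
    rw [this, Subgroup.closure_empty]
    simp
  | succ n hn ih =>
    have ih' := ih (fun i hi hin => h3 i hi (by omega))
      (fun i j hi hin hj hjn hij => h2 i j hi (by omega) hj (by omega) hij)
    refine le_trans (A_step y n hn h3 h2) ?_
    have h2dvd : 2 ∣ n.factorial := Nat.dvd_factorial (by norm_num) hn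
    calc Nat.card ↥(Subgroup.closure {k : K | ∃ i, 2 ≤ i ∧ i < n ∧ k = y i}) * (n + 1)
        ≤ n.factorial / 2 * (n + 1) := Nat.mul_le_mul_right _ ih'
      _ = (n + 1).factorial / 2 := by
        rw [Nat.factorial_succ]
        obtain ⟨k, hk⟩ := h2dvd
        rw [hk, Nat.mul_div_cancel_left _ (by norm_num : 0 < 2)]
        rw [show (n + 1) * (2 * k) = 2 * (k * (n + 1)) by ring,
          Nat.mul_div_cancel_left _ (by norm_num : 0 < 2)]

end Cfsg.Agent.S0892L
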