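import Mathlib

set_option autoImplicit false
open Equiv Equiv.Perm

namespace Cfsg.Agent.S0892L

/-- Carmichael's 3-cycle `(0 1 i)` (`0 ↦ 1 ↦ i ↦ 0`) in `Perm (Fin n)` -/
def cyc {n : ℕ} (hn : 4 ≤ n) (i : Fin n) : Perm (Fin n) :=
  swap (⟨0, by omega⟩ : Fin n) ⟨1, by omega⟩ * swap (⟨1, by omega⟩ : Fin n) i

/-- a central stem extension of `A_n`: `π : Γ →* A_n` onto, kernel central and inside `Γ'` -/
structure Stem (n : ℕ) (Γ : Type*) [Group Γ] where
  π : Γ →* alternatingGroup (Fin n)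
  surj : Function.Surjective π
  central : π.ker ≤ Subgroup.center Γ
  stem : π.ker ≤ commutator Γ

/-- a conjugation- and inversion-closed set of lifts of 3-cycles, at most one over each
permutation, all of cube `1`, containing a lift of every Carmichael generator `(0 1 i)`, `2 ≤ i` -/
structure GoodSet {n : ℕ} (hn : 4 ≤ n) {Γ : Type*} [Group Γ] (E : Stem n Γ) (S : Set Γ) : Prop where
  cube : ∀ s ∈ S, s ^ 3 = 1
  inj : ∀ s ∈ S, ∀ s' ∈ S, E.π s = E.π s' → s = s'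
  conj : ∀ s ∈ S, ∀ g : Γ, g * s * g⁻¹ ∈ S
  inv : ∀ s ∈ S, s⁻¹ ∈ S
  lift : ∀ i : Fin n, 2 ≤ i.val → ∃ s ∈ S, ((E.π s : alternatingGroup (Fin n)) : Perm (Fin n)) = cyc hn i

end Cfsg.Agent.S0892L
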