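import Mathlib
import Cfsg.Agent.Lib.S0892.Defs
import Cfsg.Agent.Lib.S0892.Carm

/-!
S0892 piece Am (helper2): Carmichael's bound modulo a central subgroup.
-/

set_option autoImplicit false
open Equiv Equiv.Perm

namespace Cfsg.Agent.S0892L

/-- a subgroup containing the kernel of a surjective homomorphism: `|L| = |f L| |ker f|`
(stated for the quotient map by a normal subgroup `B`). -/
theorem Am_card_eq {K : Type*} [Group K] [Finite K] (B : Subgroup K) [B.Normal]
    (L : Subgroup K) (hBL : B ≤ L) :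
    Nat.card ↥L = Nat.card ↥(L.map (QuotientGroup.mk' B)) * Nat.card ↥B := by
  have hker : (QuotientGroup.mk' B).ker ≤ L := by rw [QuotientGroup.ker_mk']; exact hBL
  have hcomap : (L.map (QuotientGroup.mk' B)).comap (QuotientGroup.mk' B) = L :=
    Subgroup.comap_map_eq_self hker
  have hidx : L.index = (L.map (QuotientGroup.mk' B)).index := by
    rw [← Subgroup.index_comap_of_surjective (L.map (QuotientGroup.mk' B))
      (QuotientGroup.mk'_surjective B), hcomap]
  have e1 : L.index * Nat.card ↥L = Nat.card K := L.index_mul_card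
  have e2 : (L.map (QuotientGroup.mk' B)).index * Nat.card ↥(L.map (QuotientGroup.mk' B)) =
      Nat.card (K ⧸ B) := (L.map (QuotientGroup.mk' B)).index_mul_card
  have e3 : Nat.card K = Nat.card (K ⧸ B) * Nat.card ↥B :=
    Subgroup.card_eq_card_quotient_mul_card_subgroup B
  have hpos : 0 < L.index := Nat.pos_of_ne_zero (Subgroup.index_ne_zero_of_finite)
  have : L.index * Nat.card ↥L =
      L.index * (Nat.card ↥(L.map (QuotientGroup.mk' B)) * Nat.card ↥B) := by
    rw [e1, e3, ← e2, hidx, mul_assoc]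
  exact Nat.eq_of_mul_eq_mul_left hpos this

/-- Piece Am. -/
theorem carmichael_bound_mod {K : Type*} [Group K] [Finite K] (B : Subgroup K)
    (hB : B ≤ Subgroup.center K) (y : ℕ → K) (n : ℕ) (hn : 2 ≤ n)
    (h3 : ∀ i, 2 ≤ i → i < n → y i ^ 3 ∈ B)
    (h2 : ∀ i j, 2 ≤ i → i < n → 2 ≤ j → j < n → i ≠ j → (y i * y j) ^ 2 ∈ B) :
    Nat.card ↥(Subgroup.closure {k : K | ∃ i, 2 ≤ i ∧ i < n ∧ k = y i} ⊔ B) ≤
      Nat.card ↥B * (n.factorial / 2) := by
  have hBn : B.Normal := ⟨fun b hb g => by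
    have hc := hB hb
    rw [Subgroup.mem_center_iff] at hc
    rw [hc g, mul_inv_cancel_right]
    exact hb⟩
  have h3' : ∀ i, 2 ≤ i → i < n → (QuotientGroup.mk' B (y i)) ^ 3 = 1 := by
    intro i hi hin
    rw [← map_pow]
    exact (QuotientGroup.eq_one_iff _).2 (h3 i hi hin)
  have h2' : ∀ i j, 2 ≤ i → i < n → 2 ≤ j → j < n → i ≠ j →
      (QuotientGroup.mk' B (y i) * QuotientGroup.mk' B (y j)) ^ 2 = 1 := by
    intro i j hi hin hj hjn hij
    rw [← map_mul, ← map_pow]
    exact (QuotientGroup.eq_one_iff _).2 (h2 i j hi hin hj hjn hij)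
  have hA := carmichael_bound (fun i => QuotientGroup.mk' B (y i)) n hn h3' h2'
  have hmap : (Subgroup.closure {k : K | ∃ i, 2 ≤ i ∧ i < n ∧ k = y i} ⊔ B).map
      (QuotientGroup.mk' B) =
      Subgroup.closure {q : K ⧸ B | ∃ i, 2 ≤ i ∧ i < n ∧ q = QuotientGroup.mk' B (y i)} := by
    rw [Subgroup.map_sup, QuotientGroup.map_mk'_self, sup_bot_eq, MonoidHom.map_closure]
    congr 1
    ext q
    constructor
    · rintro ⟨k, ⟨i, hi, hin, rfl⟩, rfl⟩
      exact ⟨i, hi, hin, rfl⟩
    · rintro ⟨i, hi, hin, rfl⟩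
      exact ⟨y i, ⟨i, hi, hin, rfl⟩, rfl⟩
  rw [Am_card_eq B _ le_sup_right, hmap, mul_comm]
  exact Nat.mul_le_mul_left _ hA

end Cfsg.Agent.S0892L
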