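import Mathlib
import Cfsg.Agent.Lib.S0892.Defs

set_option autoImplicit false
open Equiv Equiv.Perm

namespace Cfsg.Agent.S0892L

/-! # S0892 piece G : the 3-cycles `(0 1 i)` generate `A_n` (helper4) -/

section generic

variable {α : Type*} [DecidableEq α]

theorem G_rot {a b c : α} (ab : a ≠ b) (bc : b ≠ c) (ac : a ≠ c) :
    swap a b * swap b c = swap b c * swap c a := by
  ext x
  simp only [Perm.mul_apply, swap_apply_def]
  split_ifs <;> simp_all

theorem G_inv (a b c : α) : (swap a b * swap b c)⁻¹ = swap c b * swap b a := by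
  rw [mul_inv_rev, swap_inv, swap_inv, swap_comm b c, swap_comm a b]

theorem G_idA {z0 z1 j k : α} (h01 : z0 ≠ z1) (h0j : z0 ≠ j) (h0k : z0 ≠ k) (h1j : z1 ≠ j)
    (h1k : z1 ≠ k) (hjk : j ≠ k) :
    swap z0 j * swap j k = (swap z0 z1 * swap z1 k) * (swap j z1 * swap z1 z0) := by
  have h10 := h01.symm; have hj0 := h0j.symm; have hk0 := h0k.symm; have hj1 := h1j.symm
  have hk1 := h1k.symm; have hkj := hjk.symm
  ext x
  simp only [Perm.mul_apply]
  rcases eq_or_ne x z0 with rfl | hx0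
  · simp [swap_apply_def, *]
  rcases eq_or_ne x z1 with rfl | hx1
  · simp [swap_apply_def, *]
  rcases eq_or_ne x j with rfl | hxj
  · simp [swap_apply_def, *]
  rcases eq_or_ne x k with rfl | hxk
  · simp [swap_apply_def, *]
  · simp [swap_apply_def, *]

theorem G_idB {z0 z1 j k : α} (h01 : z0 ≠ z1) (h0j : z0 ≠ j) (h0k : z0 ≠ k) (h1j : z1 ≠ j)
    (h1k : z1 ≠ k) (hjk : j ≠ k) :
    swap z1 j * swap j k = (swap k z1 * swap z1 z0) * (swap z0 z1 * swap z1 j) := by
  have h10 := h01.symm; have hj0 := h0j.symm; have hk0 := h0k.symm; have hj1 := h1j.symm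
  have hk1 := h1k.symm; have hkj := hjk.symm
  ext x
  simp only [Perm.mul_apply]
  rcases eq_or_ne x z0 with rfl | hx0
  · simp [swap_apply_def, *]
  rcases eq_or_ne x z1 with rfl | hx1
  · simp [swap_apply_def, *]
  rcases eq_or_ne x j with rfl | hxj
  · simp [swap_apply_def, *]
  rcases eq_or_ne x k with rfl | hxk
  · simp [swap_apply_def, *]
  · simp [swap_apply_def, *]

theorem G_idC {z0 z1 i j k : α} (h01 : z0 ≠ z1) (h0i : z0 ≠ i) (h0j : z0 ≠ j) (h0k : z0 ≠ k)
    (h1i : z1 ≠ i) (h1j : z1 ≠ j) (h1k : z1 ≠ k) (hij : i ≠ j) (hik : i ≠ k) (hjk : j ≠ k) :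
    swap i j * swap j k =
      (swap i z1 * swap z1 z0) * (swap z0 j * swap j k) * (swap z0 z1 * swap z1 i) := by
  have h10 := h01.symm; have hi0 := h0i.symm; have hj0 := h0j.symm; have hk0 := h0k.symm
  have hi1 := h1i.symm; have hj1 := h1j.symm; have hk1 := h1k.symm
  have hji := hij.symm; have hki := hik.symm; have hkj := hjk.symm
  ext x
  simp only [Perm.mul_apply]
  rcases eq_or_ne x z0 with rfl | hx0
  · simp [swap_apply_def, *]
  rcases eq_or_ne x z1 with rfl | hx1
  · simp [swap_apply_def, *]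
  rcases eq_or_ne x i with rfl | hxi
  · simp [swap_apply_def, *]
  rcases eq_or_ne x j with rfl | hxj
  · simp [swap_apply_def, *]
  rcases eq_or_ne x k with rfl | hxk
  · simp [swap_apply_def, *]
  · simp [swap_apply_def, *]

/-- a subgroup containing all `(z0 z1 i)` contains every 3-cycle `(a b c)`. -/
theorem G_tc_mem (T : Subgroup (Perm α)) (z0 z1 : α) (h01 : z0 ≠ z1)
    (hT : ∀ i, i ≠ z0 → i ≠ z1 → swap z0 z1 * swap z1 i ∈ T) :
    ∀ a b c : α, a ≠ b → b ≠ c → a ≠ c → swap a b * swap b c ∈ T := by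
  -- inverses of the generators
  have hTinv : ∀ i, i ≠ z0 → i ≠ z1 → swap i z1 * swap z1 z0 ∈ T := by
    intro i h0 h1
    rw [← G_inv]
    exact T.inv_mem (hT i h0 h1)
  -- first letter z0
  have P0 : ∀ b c : α, z0 ≠ b → b ≠ c → z0 ≠ c → swap z0 b * swap b c ∈ T := by
    intro b c h0b hbc h0c
    rcases eq_or_ne b z1 with rfl | hb1
    · exact hT c h0c.symm hbc.symm
    rcases eq_or_ne c z1 with rfl | hc1
    · -- (z0 b z1) = (b z1 z0)
      rw [G_rot h0b hbc h0c]
      exact hTinv b h0b.symm hb1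
    · rw [G_idA h01 h0b h0c hb1.symm hc1.symm hbc]
      exact T.mul_mem (hT c h0c.symm hc1) (hTinv b h0b.symm hb1)
  -- first letter z1
  have P1 : ∀ b c : α, z1 ≠ b → b ≠ c → z1 ≠ c → swap z1 b * swap b c ∈ T := by
    intro b c h1b hbc h1c
    rcases eq_or_ne b z0 with rfl | hb0
    · -- (z1 z0 c) = (c z1 z0) rotated
      rw [← G_rot (a := c) (b := z1) (c := b) h1c.symm h1b hbc.symm]
      exact hTinv c hbc.symm h1c.symm
    rcases eq_or_ne c z0 with rfl | hc0
    · -- (z1 b z0) = (z0 z1 b) rotated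
      rw [← G_rot (a := c) (b := z1) (c := b) h01 h1b hbc.symm]
      exact hT b hb0 h1b.symm
    · rw [G_idB h01 hb0.symm hc0.symm h1b h1c hbc]
      exact T.mul_mem (hTinv c hc0 h1c.symm) (hT b hb0 h1b.symm)
  intro a b c hab hbc hac
  rcases eq_or_ne a z0 with rfl | ha0
  · exact P0 b c hab hbc hac
  rcases eq_or_ne a z1 with rfl | ha1
  · exact P1 b c hab hbc hac
  rcases eq_or_ne b z0 with rfl | hb0
  · rw [G_rot hab hbc hac]
    exact P0 c a hbc hac.symm hab.symm
  rcases eq_or_ne b z1 with rfl | hb1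
  · rw [G_rot hab hbc hac]
    exact P1 c a hbc hac.symm hab.symm
  rcases eq_or_ne c z0 with rfl | hc0
  · rw [G_rot hab hbc hac, G_rot hbc hac.symm hab.symm]
    exact P0 a b hac.symm hab hbc.symm
  rcases eq_or_ne c z1 with rfl | hc1
  · rw [G_rot hab hbc hac, G_rot hbc hac.symm hab.symm]
    exact P1 a b hac.symm hab hbc.symm
  · rw [G_idC h01 ha0.symm hb0.symm hc0.symm ha1.symm hb1.symm hc1.symm hab hac hbc]
    exact T.mul_mem (T.mul_mem (hTinv a ha0 ha1) (P0 b c hb0.symm hbc hc0.symm)) (hT a ha0 ha1)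

theorem G_swap_same_mem (T : Subgroup (Perm α))
    (hT : ∀ a b c : α, a ≠ b → b ≠ c → a ≠ c → swap a b * swap b c ∈ T)
    {a b c : α} (ab : a ≠ b) (ac : a ≠ c) : swap a b * swap a c ∈ T := by
  by_cases bc : b = c
  · subst bc
    simp [T.one_mem]
  · rw [swap_comm a b]
    exact hT b a c ab.symm ac bc

theorem G_isSwap_mul_mem (T : Subgroup (Perm α))
    (hT : ∀ a b c : α, a ≠ b → b ≠ c → a ≠ c → swap a b * swap b c ∈ T)
    {σ τ : Perm α} (hσ : IsSwap σ) (hτ : IsSwap τ) : σ * τ ∈ T := by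
  obtain ⟨a, b, ab, rfl⟩ := hσ
  obtain ⟨c, d, cd, rfl⟩ := hτ
  by_cases ac : a = c
  · subst ac
    exact G_swap_same_mem T hT ab cd
  have h' : swap a b * swap c d = swap a b * swap a c * (swap c a * swap c d) := by
    simp [swap_comm c a, mul_assoc]
  rw [h']
  exact T.mul_mem (G_swap_same_mem T hT ab ac) (G_swap_same_mem T hT (Ne.symm ac) cd)

theorem G_alternating_le [Fintype α] (T : Subgroup (Perm α))
    (hT : ∀ a b c : α, a ≠ b → b ≠ c → a ≠ c → swap a b * swap b c ∈ T) :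
    alternatingGroup α ≤ T := by
  intro σ hσ
  suffices hind :
    ∀ (n : ℕ) (l : List (Perm α)) (_ : ∀ g, g ∈ l → IsSwap g) (_ : l.length = 2 * n),
      l.prod ∈ T by
    obtain ⟨l, rfl, hl⟩ := truncSwapFactors σ
    obtain ⟨n, hn⟩ := (prod_list_swap_mem_alternatingGroup_iff_even_length hl).1 hσ
    rw [← two_mul] at hn
    exact hind n l hl hn
  intro n
  induction n with
  | zero =>
    intro l hl hn
    simp [List.length_eq_zero_iff.1 hn, T.one_mem]
  | succ n ih =>
    intro l hl hn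
    rw [Nat.mul_succ] at hn
    obtain ⟨a, l, rfl⟩ := l.exists_of_length_succ hn
    rw [List.length_cons, Nat.succ_inj] at hn
    obtain ⟨b, l, rfl⟩ := l.exists_of_length_succ hn
    rw [List.prod_cons, List.prod_cons, ← mul_assoc]
    apply T.mul_mem
    · exact G_isSwap_mul_mem T hT (hl a (by simp)) (hl b (by simp))
    · apply ih l
      · intro g hg
        exact hl g (by simp [hg])
      · simpa using hn

end generic

theorem cyc_mem_alternating {n : ℕ} (hn : 4 ≤ n) (i : Fin n) (hi : 2 ≤ i.val) :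
    cyc hn i ∈ alternatingGroup (Fin n) := by
  rw [Equiv.Perm.mem_alternatingGroup, cyc, map_mul, sign_swap, sign_swap]
  · rfl
  · intro h
    have := congrArg Fin.val h
    simp at this
    omega
  · intro h
    have := congrArg Fin.val h
    simp at this

theorem closure_cyc_eq_top {n : ℕ} (hn : 4 ≤ n) :
    Subgroup.closure {c : alternatingGroup (Fin n) |
      ∃ i : Fin n, 2 ≤ i.val ∧ (c : Perm (Fin n)) = cyc hn i} = ⊤ := by
  set T := Subgroup.closure {c : alternatingGroup (Fin n) |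
      ∃ i : Fin n, 2 ≤ i.val ∧ (c : Perm (Fin n)) = cyc hn i} with hTdef
  have h01 : (⟨0, by omega⟩ : Fin n) ≠ ⟨1, by omega⟩ := by
    intro h
    have := congrArg Fin.val h
    simp at this
  have hgen : ∀ i : Fin n, i ≠ ⟨0, by omega⟩ → i ≠ ⟨1, by omega⟩ →
      swap (⟨0, by omega⟩ : Fin n) ⟨1, by omega⟩ * swap (⟨1, by omega⟩ : Fin n) i ∈
        T.map (alternatingGroup (Fin n)).subtype := by
    intro i hi0 hi1
    have h2 : 2 ≤ i.val := by
      rcases Nat.lt_or_ge i.val 2 with h | h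
      · exfalso
        have : i.val = 0 ∨ i.val = 1 := by omega
        rcases this with h | h
        · exact hi0 (Fin.ext h)
        · exact hi1 (Fin.ext h)
      · exact h
    exact ⟨⟨cyc hn i, cyc_mem_alternating hn i h2⟩, Subgroup.subset_closure ⟨i, h2, rfl⟩, rfl⟩
  have hall := G_alternating_le _ (G_tc_mem _ _ _ h01 hgen)
  rw [eq_top_iff]
  intro g _
  obtain ⟨t, ht, hte⟩ := hall g.2
  have : t = g := Subtype.ext hte
  rw [← this]
  exact ht

end Cfsg.Agent.S0892L
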