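import Cfsg.Agent.Lib.S0892.Defs

set_option autoImplicit false
open Equiv Equiv.Perm

namespace Cfsg.Agent.S0892L

/-! ### permutation facts about the 3-cycles `(0 1 i)` -/

/-- conjugating `(0 1 i)` -/
theorem C_conj_cyc {n : ℕ} (hn : 4 ≤ n) (σ : Perm (Fin n)) (i : Fin n) :
    σ * cyc hn i * σ⁻¹ =
      swap (σ ⟨0, by omega⟩) (σ ⟨1, by omega⟩) * swap (σ ⟨1, by omega⟩) (σ i) := by
  unfold cyc
  rw [swap_apply_apply, swap_apply_apply]
  group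

theorem C_conj_cyc_fix {n : ℕ} (hn : 4 ≤ n) (σ : Perm (Fin n)) (h0 : σ ⟨0, by omega⟩ = ⟨0, by omega⟩)
    (h1 : σ ⟨1, by omega⟩ = ⟨1, by omega⟩) (i : Fin n) :
    σ * cyc hn i * σ⁻¹ = cyc hn (σ i) := by
  rw [C_conj_cyc, h0, h1]
  rfl

/-- `(0 1 i) (0 1 j) = (0 i)(1 j)` -/
theorem C_cyc_mul_cyc {n : ℕ} (hn : 4 ≤ n) (i j : Fin n) (hi : 2 ≤ i.val) :
    cyc hn i * cyc hn j = swap (⟨0, by omega⟩ : Fin n) i * swap (⟨1, by omega⟩ : Fin n) j := by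
  unfold cyc
  have h : swap (⟨0, by omega⟩ : Fin n) i =
      swap (⟨0, by omega⟩ : Fin n) ⟨1, by omega⟩ * swap (⟨1, by omega⟩ : Fin n) i *
        (swap (⟨0, by omega⟩ : Fin n) ⟨1, by omega⟩)⁻¹ := by
    rw [← swap_apply_apply, swap_apply_right, swap_apply_of_ne_of_ne]
    · intro e; rw [Fin.ext_iff] at e; simp at e; omega
    · intro e; rw [Fin.ext_iff] at e; simp at e; omega
  rw [h, swap_inv]
  group

theorem C_cyc_mul_cyc_sq {n : ℕ} (hn : 4 ≤ n) (i j : Fin n) (hi : 2 ≤ i.val) (hj : 2 ≤ j.val)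
    (hij : i ≠ j) : (cyc hn i * cyc hn j) ^ 2 = 1 := by
  rw [C_cyc_mul_cyc hn i j hi]
  have hd : Disjoint (swap (⟨0, by omega⟩ : Fin n) i) (swap (⟨1, by omega⟩ : Fin n) j) := by
    apply disjoint_swap_swap
    simp only [List.nodup_cons, List.mem_cons, List.not_mem_nil, or_false, not_or,
      List.nodup_nil, and_true, not_false_eq_true]
    refine ⟨⟨?_, ?_, ?_⟩, ⟨?_, ?_⟩, ?_⟩
    · intro e; rw [Fin.ext_iff] at e; simp at e; omega
    · intro e; rw [Fin.ext_iff] at e; simp at e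
    · intro e; rw [Fin.ext_iff] at e; simp at e; omega
    · intro e; rw [Fin.ext_iff] at e; simp at e; omega
    · exact hij
    · intro e; rw [Fin.ext_iff] at e; simp at e; omega
  rw [hd.commute.mul_pow, pow_two, pow_two, swap_mul_self, swap_mul_self, one_mul]

/-- the even permutation `(0 1)(i j)` conjugates `(0 1 i)` to the inverse of `(0 1 j)` -/
theorem C_flip_cyc {n : ℕ} (hn : 4 ≤ n) (i j : Fin n) (hi : 2 ≤ i.val) (hj : 2 ≤ j.val) :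
    (swap (⟨0, by omega⟩ : Fin n) ⟨1, by omega⟩ * swap i j) * cyc hn i *
      (swap (⟨0, by omega⟩ : Fin n) ⟨1, by omega⟩ * swap i j)⁻¹ = (cyc hn j)⁻¹ := by
  have hi0 : i ≠ (⟨0, by omega⟩ : Fin n) := by intro e; rw [Fin.ext_iff] at e; simp at e; omega
  have hi1 : i ≠ (⟨1, by omega⟩ : Fin n) := by intro e; rw [Fin.ext_iff] at e; simp at e; omega
  have hj0 : j ≠ (⟨0, by omega⟩ : Fin n) := by intro e; rw [Fin.ext_iff] at e; simp at e; omega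
  have hj1 : j ≠ (⟨1, by omega⟩ : Fin n) := by intro e; rw [Fin.ext_iff] at e; simp at e; omega
  have h01 : (⟨0, by omega⟩ : Fin n) ≠ ⟨1, by omega⟩ := by
    intro e; rw [Fin.ext_iff] at e; simp at e
  rw [C_conj_cyc]
  have e0 : (swap (⟨0, by omega⟩ : Fin n) ⟨1, by omega⟩ * swap i j) ⟨0, by omega⟩ = ⟨1, by omega⟩ := by
    rw [Perm.mul_apply, swap_apply_of_ne_of_ne hi0.symm hj0.symm, swap_apply_left]
  have e1 : (swap (⟨0, by omega⟩ : Fin n) ⟨1, by omega⟩ * swap i j) ⟨1, by omega⟩ = ⟨0, by omega⟩ := by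
    rw [Perm.mul_apply, swap_apply_of_ne_of_ne hi1.symm hj1.symm, swap_apply_right]
  have ei : (swap (⟨0, by omega⟩ : Fin n) ⟨1, by omega⟩ * swap i j) i = j := by
    rw [Perm.mul_apply, swap_apply_left, swap_apply_of_ne_of_ne hj0 hj1]
  rw [e0, e1, ei]
  -- `swap 1 0 * swap 0 j = (swap 0 1 * swap 1 j)⁻¹`
  unfold cyc
  rw [mul_inv_rev, swap_inv, swap_inv]
  have h : swap (⟨1, by omega⟩ : Fin n) j =
      swap (⟨0, by omega⟩ : Fin n) ⟨1, by omega⟩ * swap (⟨0, by omega⟩ : Fin n) j *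
        (swap (⟨0, by omega⟩ : Fin n) ⟨1, by omega⟩)⁻¹ := by
    rw [← swap_apply_apply, swap_apply_left, swap_apply_of_ne_of_ne hj0 hj1]
  rw [h, swap_inv, swap_comm (⟨1, by omega⟩ : Fin n) ⟨0, by omega⟩]
  rw [mul_assoc, mul_assoc, swap_mul_self, mul_one]

theorem C_flip_mem {n : ℕ} (i j : Fin n) (hn : 4 ≤ n) (hij : i ≠ j) :
    swap (⟨0, by omega⟩ : Fin n) ⟨1, by omega⟩ * swap i j ∈ alternatingGroup (Fin n) := by
  rw [mem_alternatingGroup, map_mul, sign_swap, sign_swap hij]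
  · rfl
  · intro e; rw [Fin.ext_iff] at e; simp at e


/-! ### more facts, used for the kernel of order 3 -/

theorem PF_cyc_isThreeCycle {n : ℕ} (hn : 4 ≤ n) (i : Fin n) (hi : 2 ≤ i.val) :
    IsThreeCycle (cyc hn i) := by
  unfold cyc
  rw [swap_comm (⟨0, by omega⟩ : Fin n) ⟨1, by omega⟩]
  apply isThreeCycle_swap_mul_swap_same
  · intro e; rw [Fin.ext_iff] at e; simp at e
  · intro e; rw [Fin.ext_iff] at e; simp at e; omega
  · intro e; rw [Fin.ext_iff] at e; simp at e; omega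

theorem PF_cyc_mem {n : ℕ} (hn : 4 ≤ n) (i : Fin n) (hi : 2 ≤ i.val) :
    cyc hn i ∈ alternatingGroup (Fin n) :=
  (PF_cyc_isThreeCycle hn i hi).mem_alternatingGroup

/-- `(1 2)(3 4)` is even -/
theorem PF_inv_mem {n : ℕ} (hn : 5 ≤ n) :
    swap (⟨1, by omega⟩ : Fin n) ⟨2, by omega⟩ * swap (⟨3, by omega⟩ : Fin n) ⟨4, by omega⟩ ∈
      alternatingGroup (Fin n) := by
  rw [mem_alternatingGroup, map_mul, sign_swap, sign_swap]
  · rfl
  · intro e; rw [Fin.ext_iff] at e; simp at e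
  · intro e; rw [Fin.ext_iff] at e; simp at e

/-- `(1 2)(3 4)` inverts `(0 1 2)` -/
theorem PF_inv_cyc {n : ℕ} (hn : 5 ≤ n) :
    (swap (⟨1, by omega⟩ : Fin n) ⟨2, by omega⟩ * swap (⟨3, by omega⟩ : Fin n) ⟨4, by omega⟩) *
      cyc (by omega : 4 ≤ n) ⟨2, by omega⟩ *
      (swap (⟨1, by omega⟩ : Fin n) ⟨2, by omega⟩ * swap (⟨3, by omega⟩ : Fin n) ⟨4, by omega⟩)⁻¹ =
      (cyc (by omega : 4 ≤ n) ⟨2, by omega⟩)⁻¹ := by
  have ne : ∀ a b : ℕ, ∀ (ha : a < n) (hb : b < n), a ≠ b → (⟨a, ha⟩ : Fin n) ≠ ⟨b, hb⟩ := by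
    intro a b ha hb hab e; rw [Fin.ext_iff] at e; exact hab e
  rw [C_conj_cyc]
  have e0 : (swap (⟨1, by omega⟩ : Fin n) ⟨2, by omega⟩ * swap (⟨3, by omega⟩ : Fin n) ⟨4, by omega⟩)
      ⟨0, by omega⟩ = ⟨0, by omega⟩ := by
    rw [Perm.mul_apply, swap_apply_of_ne_of_ne (ne 0 3 _ _ (by omega)) (ne 0 4 _ _ (by omega)),
      swap_apply_of_ne_of_ne (ne 0 1 _ _ (by omega)) (ne 0 2 _ _ (by omega))]
  have e1 : (swap (⟨1, by omega⟩ : Fin n) ⟨2, by omega⟩ * swap (⟨3, by omega⟩ : Fin n) ⟨4, by omega⟩)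
      ⟨1, by omega⟩ = ⟨2, by omega⟩ := by
    rw [Perm.mul_apply, swap_apply_of_ne_of_ne (ne 1 3 _ _ (by omega)) (ne 1 4 _ _ (by omega)),
      swap_apply_left]
  have e2 : (swap (⟨1, by omega⟩ : Fin n) ⟨2, by omega⟩ * swap (⟨3, by omega⟩ : Fin n) ⟨4, by omega⟩)
      ⟨2, by omega⟩ = ⟨1, by omega⟩ := by
    rw [Perm.mul_apply, swap_apply_of_ne_of_ne (ne 2 3 _ _ (by omega)) (ne 2 4 _ _ (by omega)),
      swap_apply_right]
  rw [e0, e1, e2]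
  unfold cyc
  rw [mul_inv_rev, swap_inv, swap_inv]
  -- `swap 0 2 * swap 2 1 = swap 1 2 * swap 0 1`
  have h : swap (⟨0, by omega⟩ : Fin n) ⟨2, by omega⟩ =
      swap (⟨1, by omega⟩ : Fin n) ⟨2, by omega⟩ * swap (⟨0, by omega⟩ : Fin n) ⟨1, by omega⟩ *
        (swap (⟨1, by omega⟩ : Fin n) ⟨2, by omega⟩)⁻¹ := by
    rw [← swap_apply_apply, swap_apply_left,
      swap_apply_of_ne_of_ne (ne 0 1 _ _ (by omega)) (ne 0 2 _ _ (by omega))]
  rw [h, swap_inv, swap_comm (⟨2, by omega⟩ : Fin n) ⟨1, by omega⟩]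
  rw [mul_assoc, mul_assoc, swap_mul_self, mul_one]

end Cfsg.Agent.S0892L
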