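import Cfsg.Agent.Lib.S0892.CarmMod
import Cfsg.Agent.Lib.S0892.Gen
import Cfsg.Agent.Lib.S0892.PermFacts

set_option autoImplicit false
open Equiv Equiv.Perm
open scoped commutatorElement

namespace Cfsg.Agent.S0892L

/-! ### the core argument -/

section core

variable {n : ℕ} (hn : 4 ≤ n) {Γ : Type*} [Group Γ] (E : Stem n Γ)

/-- the unique element of a good set over a given permutation -/
theorem C_eq_of_mem {S : Set Γ} (hS : GoodSet hn E S) {s s' : Γ} (hs : s ∈ S) (hs' : s' ∈ S)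
    (h : ((E.π s : alternatingGroup (Fin n)) : Perm (Fin n)) =
      ((E.π s' : alternatingGroup (Fin n)) : Perm (Fin n))) : s = s' :=
  hS.inj s hs s' hs' (Subtype.ext h)

theorem C_central {z : Γ} (hz : z ∈ E.π.ker) (g : Γ) : g * z = z * g :=
  (Subgroup.mem_center_iff.1 (E.central hz) g)

/-- conjugating by a lift of an even permutation fixing `0` and `1` -/
theorem C_conj_lift {S : Set Γ} (hS : GoodSet hn E S) (g : Γ)
    (h0 : ((E.π g : alternatingGroup (Fin n)) : Perm (Fin n)) ⟨0, by omega⟩ = ⟨0, by omega⟩)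
    (h1 : ((E.π g : alternatingGroup (Fin n)) : Perm (Fin n)) ⟨1, by omega⟩ = ⟨1, by omega⟩)
    (i : Fin n) {s s' : Γ} (hs : s ∈ S) (hs' : s' ∈ S)
    (hsi : ((E.π s : alternatingGroup (Fin n)) : Perm (Fin n)) = cyc hn i)
    (hs'i : ((E.π s' : alternatingGroup (Fin n)) : Perm (Fin n)) =
      cyc hn (((E.π g : alternatingGroup (Fin n)) : Perm (Fin n)) i)) :
    g * s * g⁻¹ = s' := by
  apply C_eq_of_mem hn E hS (hS.conj s hs g) hs'
  rw [hs'i, map_mul, map_mul, map_inv]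
  simp only [Subgroup.coe_mul, Subgroup.coe_inv]
  rw [hsi]
  exact C_conj_cyc_fix hn _ h0 h1 i

/-- conjugating by a lift of `(0 1)(i j)` -/
theorem C_flip_lift {S : Set Γ} (hS : GoodSet hn E S) (i j : Fin n) (hi : 2 ≤ i.val)
    (hj : 2 ≤ j.val) (g : Γ)
    (hg : ((E.π g : alternatingGroup (Fin n)) : Perm (Fin n)) =
      swap (⟨0, by omega⟩ : Fin n) ⟨1, by omega⟩ * swap i j)
    {s s' : Γ} (hs : s ∈ S) (hs' : s' ∈ S)
    (hsi : ((E.π s : alternatingGroup (Fin n)) : Perm (Fin n)) = cyc hn i)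
    (hs'j : ((E.π s' : alternatingGroup (Fin n)) : Perm (Fin n)) = cyc hn j) :
    g * s * g⁻¹ = s'⁻¹ := by
  apply C_eq_of_mem hn E hS (hS.conj s hs g) (hS.inv s' hs')
  rw [map_mul, map_mul, map_inv, map_inv]
  simp only [Subgroup.coe_mul, Subgroup.coe_inv]
  rw [hsi, hs'j, hg]
  exact C_flip_cyc hn i j hi hj

/-- `(s s')²` lies in the kernel and is an involution or trivial -/
theorem C_beta {S : Set Γ} (hS : GoodSet hn E S) (i j : Fin n) (hi : 2 ≤ i.val)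
    (hj : 2 ≤ j.val) (hij : i ≠ j) {s s' : Γ} (hs : s ∈ S) (hs' : s' ∈ S)
    (hsi : ((E.π s : alternatingGroup (Fin n)) : Perm (Fin n)) = cyc hn i)
    (hs'j : ((E.π s' : alternatingGroup (Fin n)) : Perm (Fin n)) = cyc hn j) :
    (s * s') ^ 2 ∈ E.π.ker ∧ ((s * s') ^ 2) ^ 2 = 1 := by
  have hker : (s * s') ^ 2 ∈ E.π.ker := by
    rw [MonoidHom.mem_ker]
    apply Subtype.ext
    rw [map_pow, map_mul]
    simp only [Subgroup.coe_pow, Subgroup.coe_mul, Subgroup.coe_one]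
    rw [hsi, hs'j]
    exact C_cyc_mul_cyc_sq hn i j hi hj hij
  refine ⟨hker, ?_⟩
  obtain ⟨g, hg⟩ := E.surj ⟨_, C_flip_mem i j hn hij⟩
  have hg' : ((E.π g : alternatingGroup (Fin n)) : Perm (Fin n)) =
      swap (⟨0, by omega⟩ : Fin n) ⟨1, by omega⟩ * swap i j := by rw [hg]
  have h1 := C_flip_lift hn E hS i j hi hj g hg' hs hs' hsi hs'j
  have hg'' : ((E.π g : alternatingGroup (Fin n)) : Perm (Fin n)) =
      swap (⟨0, by omega⟩ : Fin n) ⟨1, by omega⟩ * swap j i := by rw [hg', swap_comm i j]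
  have h2 := C_flip_lift hn E hS j i hj hi g hg'' hs' hs hs'j hsi
  have h3 : g * (s * s') * g⁻¹ = (s * s')⁻¹ := by
    calc g * (s * s') * g⁻¹ = (g * s * g⁻¹) * (g * s' * g⁻¹) := by group
      _ = s'⁻¹ * s⁻¹ := by rw [h1, h2]
      _ = (s * s')⁻¹ := by rw [mul_inv_rev]
  have h4 : g * (s * s') ^ 2 * g⁻¹ = ((s * s') ^ 2)⁻¹ := by
    calc g * (s * s') ^ 2 * g⁻¹ = (g * (s * s') * g⁻¹) ^ 2 := by
          rw [pow_two, pow_two]; group
      _ = ((s * s')⁻¹) ^ 2 := by rw [h3]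
      _ = ((s * s') ^ 2)⁻¹ := by rw [inv_pow]
  have h5 : g * (s * s') ^ 2 * g⁻¹ = (s * s') ^ 2 := by
    rw [C_central E hker g, mul_assoc, mul_inv_cancel, mul_one]
  rw [h5] at h4
  calc ((s * s') ^ 2) ^ 2 = (s * s') ^ 2 * (s * s') ^ 2 := pow_two _
    _ = (s * s') ^ 2 * ((s * s') ^ 2)⁻¹ := by rw [← h4]
    _ = 1 := mul_inv_cancel _

theorem C_beta_symm {s s' : Γ} (h : (s * s') ^ 2 ∈ E.π.ker) : (s' * s) ^ 2 = (s * s') ^ 2 := by
  have h1 : (s' * s) ^ 2 = s⁻¹ * (s * s') ^ 2 * s := by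
    rw [pow_two, pow_two]; group
  rw [h1, mul_assoc, ← C_central E h s, ← mul_assoc, inv_mul_cancel, one_mul]

theorem C_beta_conj {S : Set Γ} (hS : GoodSet hn E S) (g : Γ)
    (h0 : ((E.π g : alternatingGroup (Fin n)) : Perm (Fin n)) ⟨0, by omega⟩ = ⟨0, by omega⟩)
    (h1 : ((E.π g : alternatingGroup (Fin n)) : Perm (Fin n)) ⟨1, by omega⟩ = ⟨1, by omega⟩)
    (i j : Fin n) {s s' t t' : Γ} (hs : s ∈ S) (hs' : s' ∈ S) (ht : t ∈ S) (ht' : t' ∈ S)
    (hsi : ((E.π s : alternatingGroup (Fin n)) : Perm (Fin n)) = cyc hn i)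
    (hs'j : ((E.π s' : alternatingGroup (Fin n)) : Perm (Fin n)) = cyc hn j)
    (hti : ((E.π t : alternatingGroup (Fin n)) : Perm (Fin n)) =
      cyc hn (((E.π g : alternatingGroup (Fin n)) : Perm (Fin n)) i))
    (ht'j : ((E.π t' : alternatingGroup (Fin n)) : Perm (Fin n)) =
      cyc hn (((E.π g : alternatingGroup (Fin n)) : Perm (Fin n)) j))
    (hker : (s * s') ^ 2 ∈ E.π.ker) : (t * t') ^ 2 = (s * s') ^ 2 := by
  have e1 := C_conj_lift hn E hS g h0 h1 i hs ht hsi hti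
  have e2 := C_conj_lift hn E hS g h0 h1 j hs' ht' hs'j ht'j
  have h3 : g * (s * s') ^ 2 * g⁻¹ = (t * t') ^ 2 := by
    rw [← e1, ← e2, pow_two, pow_two]; group
  rw [← h3, C_central E hker g, mul_assoc, mul_inv_cancel, mul_one]

/-- all the `(x_i x_j)²` coincide -/
theorem C_beta_eq {S : Set Γ} (hS : GoodSet hn E S) (i j i' j' : Fin n) (hi : 2 ≤ i.val)
    (hj : 2 ≤ j.val) (hi' : 2 ≤ i'.val) (hj' : 2 ≤ j'.val) (hij : i ≠ j) (hij' : i' ≠ j')
    {s s' t t' : Γ} (hs : s ∈ S) (hs' : s' ∈ S) (ht : t ∈ S) (ht' : t' ∈ S)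
    (hsi : ((E.π s : alternatingGroup (Fin n)) : Perm (Fin n)) = cyc hn i)
    (hs'j : ((E.π s' : alternatingGroup (Fin n)) : Perm (Fin n)) = cyc hn j)
    (hti : ((E.π t : alternatingGroup (Fin n)) : Perm (Fin n)) = cyc hn i')
    (ht'j : ((E.π t' : alternatingGroup (Fin n)) : Perm (Fin n)) = cyc hn j') :
    (t * t') ^ 2 = (s * s') ^ 2 := by
  have hker := (C_beta hn E hS i j hi hj hij hs hs' hsi hs'j).1
  have hker' := (C_beta hn E hS i' j' hi' hj' hij' ht ht' hti ht'j).1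
  set f0 : Fin n := ⟨0, by omega⟩ with hf0
  set f1 : Fin n := ⟨1, by omega⟩ with hf1
  have ne0 : ∀ k : Fin n, 2 ≤ k.val → k ≠ f0 := by
    intro k hk e; rw [hf0, Fin.ext_iff] at e; simp at e; omega
  have ne1 : ∀ k : Fin n, 2 ≤ k.val → k ≠ f1 := by
    intro k hk e; rw [hf1, Fin.ext_iff] at e; simp at e; omega
  set j1 : Fin n := swap i i' j with hj1
  have hj1ge : 2 ≤ j1.val := by
    rw [hj1, swap_apply_def]; split_ifs <;> assumption
  have hj1i' : j1 ≠ i' := by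
    intro e
    have : swap i i' j = swap i i' i := by rw [swap_apply_left]; exact e
    exact hij ((swap i i').injective this).symm
  set τ : Perm (Fin n) := swap j1 j' * swap i i' with hτ
  have hτi : τ i = i' := by
    rw [hτ, Perm.mul_apply, swap_apply_left, swap_apply_of_ne_of_ne hj1i'.symm hij']
  have hτj : τ j = j' := by
    rw [hτ, Perm.mul_apply, ← hj1, swap_apply_left]
  have hτ0 : τ f0 = f0 := by
    rw [hτ, Perm.mul_apply, swap_apply_of_ne_of_ne (ne0 i hi).symm (ne0 i' hi').symm,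
      swap_apply_of_ne_of_ne (ne0 j1 hj1ge).symm (ne0 j' hj').symm]
  have hτ1 : τ f1 = f1 := by
    rw [hτ, Perm.mul_apply, swap_apply_of_ne_of_ne (ne1 i hi).symm (ne1 i' hi').symm,
      swap_apply_of_ne_of_ne (ne1 j1 hj1ge).symm (ne1 j' hj').symm]
  rcases Int.units_eq_one_or (sign τ) with hsg | hsg
  · -- `τ` even
    obtain ⟨g, hg⟩ := E.surj ⟨τ, mem_alternatingGroup.2 hsg⟩
    have hg' : ((E.π g : alternatingGroup (Fin n)) : Perm (Fin n)) = τ := by rw [hg]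
    refine C_beta_conj hn E hS g ?_ ?_ i j hs hs' ht ht' hsi hs'j ?_ ?_ hker
    · rw [hg']; exact hτ0
    · rw [hg']; exact hτ1
    · rw [hg', hτi]; exact hti
    · rw [hg', hτj]; exact ht'j
  · -- `τ` odd: use `τ * swap i j`
    have hsg' : sign (τ * swap i j) = 1 := by
      rw [map_mul, hsg, sign_swap hij]; rfl
    obtain ⟨g, hg⟩ := E.surj ⟨τ * swap i j, mem_alternatingGroup.2 hsg'⟩
    have hg' : ((E.π g : alternatingGroup (Fin n)) : Perm (Fin n)) = τ * swap i j := by rw [hg]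
    have hσi : (τ * swap i j) i = j' := by rw [Perm.mul_apply, swap_apply_left, hτj]
    have hσj : (τ * swap i j) j = i' := by rw [Perm.mul_apply, swap_apply_right, hτi]
    have hσ0 : (τ * swap i j) f0 = f0 := by
      rw [Perm.mul_apply, swap_apply_of_ne_of_ne (ne0 i hi).symm (ne0 j hj).symm, hτ0]
    have hσ1 : (τ * swap i j) f1 = f1 := by
      rw [Perm.mul_apply, swap_apply_of_ne_of_ne (ne1 i hi).symm (ne1 j hj).symm, hτ1]
    have := C_beta_conj hn E hS g (by rw [hg']; exact hσ0) (by rw [hg']; exact hσ1) i j hs hs'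
      ht' ht hsi hs'j (by rw [hg', hσi]; exact ht'j) (by rw [hg', hσj]; exact hti) hker
    rw [← this]
    exact (C_beta_symm E hker').symm

end core

theorem C_comm_le {Γ : Type*} [Group Γ] (Z Γ1 : Subgroup Γ) (hZ : Z ≤ Subgroup.center Γ)
    (hcov : ∀ g : Γ, ∃ g1 ∈ Γ1, ∃ z ∈ Z, g = g1 * z) : commutator Γ ≤ Γ1 := by
  rw [commutator_def, Subgroup.commutator_le]
  intro a _ b _
  obtain ⟨a1, ha1, z1, hz1, rfl⟩ := hcov a
  obtain ⟨b1, hb1, z2, hz2, rfl⟩ := hcov b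
  have c1 : ∀ g : Γ, g * z1 = z1 * g := fun g => Subgroup.mem_center_iff.1 (hZ hz1) g
  have c2 : ∀ g : Γ, g * z2 = z2 * g := fun g => Subgroup.mem_center_iff.1 (hZ hz2) g
  have : ⁅a1 * z1, b1 * z2⁆ = ⁅a1, b1⁆ := by
    rw [commutatorElement_def, commutatorElement_def]
    calc a1 * z1 * (b1 * z2) * (a1 * z1)⁻¹ * (b1 * z2)⁻¹
        = a1 * z1 * (b1 * z2) * (z1⁻¹ * a1⁻¹) * (z2⁻¹ * b1⁻¹) := by rw [mul_inv_rev, mul_inv_rev]
      _ = a1 * (z1 * b1) * (z2 * z1⁻¹) * a1⁻¹ * z2⁻¹ * b1⁻¹ := by group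
      _ = a1 * (b1 * z1) * (z2 * z1⁻¹) * a1⁻¹ * z2⁻¹ * b1⁻¹ := by rw [c1 b1]
      _ = a1 * b1 * (z1 * z2 * z1⁻¹) * a1⁻¹ * z2⁻¹ * b1⁻¹ := by group
      _ = a1 * b1 * z2 * a1⁻¹ * z2⁻¹ * b1⁻¹ := by rw [← c1 z2, mul_assoc z2, mul_inv_cancel, mul_one]
      _ = a1 * b1 * (z2 * a1⁻¹) * z2⁻¹ * b1⁻¹ := by group
      _ = a1 * b1 * (a1⁻¹ * z2) * z2⁻¹ * b1⁻¹ := by rw [c2 a1⁻¹]
      _ = a1 * b1 * a1⁻¹ * b1⁻¹ := by group
  rw [this]
  exact Γ1.mul_mem (Γ1.mul_mem (Γ1.mul_mem ha1 hb1) (Γ1.inv_mem ha1)) (Γ1.inv_mem hb1)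

theorem card_ker_le_two {n : ℕ} (hn : 4 ≤ n) {Γ : Type*} [Group Γ] [Finite Γ] (E : Stem n Γ)
    (S : Set Γ) (hS : GoodSet hn E S) : Nat.card ↥E.π.ker ≤ 2 := by
  classical
  have hex : ∀ i : ℕ, ∃ s : Γ, ∀ (_ : 2 ≤ i) (h : i < n),
      s ∈ S ∧ ((E.π s : alternatingGroup (Fin n)) : Perm (Fin n)) = cyc hn ⟨i, h⟩ := by
    intro i
    by_cases h : 2 ≤ i ∧ i < n
    · obtain ⟨s, hs, hsi⟩ := hS.lift ⟨i, h.2⟩ h.1
      exact ⟨s, fun _ _ => ⟨hs, hsi⟩⟩
    · exact ⟨1, fun h2 h' => absurd ⟨h2, h'⟩ h⟩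
  choose x hx using hex
  have hxS : ∀ i (_ : 2 ≤ i) (_ : i < n), x i ∈ S := fun i h2 hi => (hx i h2 hi).1
  have hxπ : ∀ i (_ : 2 ≤ i) (hi : i < n),
      ((E.π (x i) : alternatingGroup (Fin n)) : Perm (Fin n)) = cyc hn ⟨i, hi⟩ :=
    fun i h2 hi => (hx i h2 hi).2
  set ζ : Γ := (x 2 * x 3) ^ 2 with hζdef
  have h23 : (⟨2, by omega⟩ : Fin n) ≠ ⟨3, by omega⟩ := by
    intro e; rw [Fin.ext_iff] at e; simp at e
  have hζ := C_beta hn E hS ⟨2, by omega⟩ ⟨3, by omega⟩ (le_refl 2) (by simp) h23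
    (hxS 2 (le_refl 2) (by omega)) (hxS 3 (by omega) (by omega)) (hxπ 2 (le_refl 2) (by omega))
    (hxπ 3 (by omega) (by omega))
  set B : Subgroup Γ := Subgroup.zpowers ζ with hB
  have hBc : B ≤ Subgroup.center Γ := by
    rw [hB, Subgroup.zpowers_le]
    exact E.central hζ.1
  have hBcard : Nat.card ↥B ≤ 2 := by
    rw [hB, Nat.card_zpowers]
    exact orderOf_le_of_pow_eq_one (by norm_num) hζ.2
  have hbound := carmichael_bound_mod B hBc x n (by omega)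
    (by
      intro i h2 hi
      rw [hS.cube _ (hxS i h2 hi)]
      exact B.one_mem)
    (by
      intro i j h2i hi h2j hj hij
      have hij' : (⟨i, hi⟩ : Fin n) ≠ ⟨j, hj⟩ := by
        intro e; rw [Fin.ext_iff] at e; exact hij e
      have := C_beta_eq hn E hS ⟨2, by omega⟩ ⟨3, by omega⟩ ⟨i, hi⟩ ⟨j, hj⟩ (le_refl 2) (by simp)
        h2i h2j h23 hij' (hxS 2 (le_refl 2) (by omega)) (hxS 3 (by omega) (by omega))
        (hxS i h2i hi) (hxS j h2j hj) (hxπ 2 (le_refl 2) (by omega))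
        (hxπ 3 (by omega) (by omega)) (hxπ i h2i hi) (hxπ j h2j hj)
      rw [this]
      exact Subgroup.mem_zpowers ζ)
  set Γ1 : Subgroup Γ := Subgroup.closure {k : Γ | ∃ i, 2 ≤ i ∧ i < n ∧ k = x i} with hΓ1
  have hmap : Γ1.map E.π = ⊤ := by
    rw [hΓ1, MonoidHom.map_closure, ← closure_cyc_eq_top hn]
    congr 1
    ext c
    simp only [Set.mem_image, Set.mem_ofPred_eq]
    constructor
    · rintro ⟨k, ⟨i, h2, hi, rfl⟩, rfl⟩
      exact ⟨⟨i, hi⟩, h2, hxπ i h2 hi⟩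
    · rintro ⟨i, h2, hc⟩
      refine ⟨x i.val, ⟨i.val, h2, i.isLt, rfl⟩, ?_⟩
      apply Subtype.ext
      rw [hxπ i.val h2 i.isLt, hc]
  have hcov : ∀ g : Γ, ∃ g1 ∈ Γ1, ∃ z ∈ E.π.ker, g = g1 * z := by
    intro g
    have : E.π g ∈ Γ1.map E.π := by rw [hmap]; exact Subgroup.mem_top _
    obtain ⟨g1, hg1, hg1g⟩ := Subgroup.mem_map.1 this
    refine ⟨g1, hg1, g1⁻¹ * g, ?_, by group⟩
    rw [MonoidHom.mem_ker, map_mul, map_inv, hg1g, inv_mul_cancel]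
  have hcomm : commutator Γ ≤ Γ1 := C_comm_le E.π.ker Γ1 E.central hcov
  have htop : Γ1 = ⊤ := by
    rw [eq_top_iff]
    intro g _
    obtain ⟨g1, hg1, z, hz, rfl⟩ := hcov g
    exact Γ1.mul_mem hg1 (hcomm (E.stem hz))
  have h1 : Nat.card Γ ≤ Nat.card ↥B * (n.factorial / 2) := by
    have : Γ1 ⊔ B = ⊤ := by rw [htop]; exact top_sup_eq B
    rw [this, Subgroup.card_top] at hbound
    exact hbound
  have : Nontrivial (Fin n) := Fin.nontrivial_iff_two_le.2 (by omega)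
  have h2 : Nat.card Γ = Nat.card ↥E.π.ker * (n.factorial / 2) := by
    rw [Subgroup.card_eq_card_quotient_mul_card_subgroup E.π.ker,
      Nat.card_congr (QuotientGroup.quotientKerEquivOfSurjective E.π E.surj).toEquiv,
      nat_card_alternatingGroup, Nat.card_eq_fintype_card, Fintype.card_fin, mul_comm]
  have hpos : 0 < n.factorial / 2 := by
    apply Nat.div_pos _ (by norm_num)
    calc 2 = Nat.factorial 2 := rfl
      _ ≤ n.factorial := Nat.factorial_le (by omega)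
  rw [h2] at h1
  have h3 : Nat.card ↥E.π.ker * (n.factorial / 2) ≤ 2 * (n.factorial / 2) :=
    le_trans h1 (Nat.mul_le_mul_right _ hBcard)
  exact Nat.le_of_mul_le_mul_right h3 hpos

end Cfsg.Agent.S0892L
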