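import Cfsg.Agent.Lib.S0892.Defs

set_option autoImplicit false
open Equiv Equiv.Perm

namespace Cfsg.Agent.S0892L

universe u

/-! # S0892 piece R : reduction to a kernel of order 4 or an odd prime (lead) -/

theorem R_normal_of_le_center {Γ : Type*} [Group Γ] (W : Subgroup Γ)
    (hW : W ≤ Subgroup.center Γ) : W.Normal := by
  refine ⟨fun w hw g => ?_⟩
  have hc := Subgroup.mem_center_iff.1 (hW hw)
  have : g * w * g⁻¹ = w := by
    rw [hc g]
    group
  rw [this]
  exact hw

/-- the quotient of a stem extension by a subgroup of the kernel -/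
def R_quot {n : ℕ} {Γ : Type*} [Group Γ] (E : Stem n Γ) (W : Subgroup Γ) [W.Normal]
    (hW : W ≤ E.π.ker) : Stem n (Γ ⧸ W) where
  π := QuotientGroup.lift W E.π hW
  surj := by
    intro a
    obtain ⟨g, rfl⟩ := E.surj a
    exact ⟨(g : Γ ⧸ W), QuotientGroup.lift_mk W hW g⟩
  central := by
    intro x hx
    induction x using QuotientGroup.induction_on with
    | H g =>
      have hg : g ∈ E.π.ker := by
        rw [MonoidHom.mem_ker] at hx ⊢
        rwa [QuotientGroup.lift_mk] at hx
      have hc := Subgroup.mem_center_iff.1 (E.central hg)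
      rw [Subgroup.mem_center_iff]
      intro y
      induction y using QuotientGroup.induction_on with
      | H h =>
        rw [← QuotientGroup.mk_mul, ← QuotientGroup.mk_mul, hc h]
  stem := by
    intro x hx
    induction x using QuotientGroup.induction_on with
    | H g =>
      have hg : g ∈ E.π.ker := by
        rw [MonoidHom.mem_ker] at hx ⊢
        rwa [QuotientGroup.lift_mk] at hx
      have h1 : g ∈ commutator Γ := E.stem hg
      have h2 : (commutator Γ).map (QuotientGroup.mk' W) = commutator (Γ ⧸ W) := by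
        rw [commutator_def, commutator_def, Subgroup.map_commutator,
          Subgroup.map_top_of_surjective _ (QuotientGroup.mk'_surjective W)]
      rw [← h2]
      exact Subgroup.mem_map.2 ⟨g, h1, rfl⟩

theorem R_card {n : ℕ} {Γ : Type*} [Group Γ] [Finite Γ] (E : Stem n Γ) :
    Nat.card ↥E.π.ker * Nat.card (alternatingGroup (Fin n)) = Nat.card Γ := by
  have h1 := Subgroup.card_mul_index E.π.ker
  rw [Subgroup.index_ker] at h1
  have h2 : E.π.range = ⊤ := MonoidHom.range_eq_top.2 E.surj
  rw [h2, Subgroup.card_top] at h1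
  exact h1

theorem R_card_quot {n : ℕ} {Γ : Type*} [Group Γ] [Finite Γ] (E : Stem n Γ) (W : Subgroup Γ)
    [W.Normal] (hW : W ≤ E.π.ker) :
    Nat.card ↥(R_quot E W hW).π.ker * Nat.card ↥W = Nat.card ↥E.π.ker := by
  have h1 := R_card E
  have h2 := R_card (R_quot E W hW)
  have h3 : Nat.card Γ = Nat.card (Γ ⧸ W) * Nat.card W :=
    Subgroup.card_eq_card_quotient_mul_card_subgroup W
  have hpos : 0 < Nat.card (alternatingGroup (Fin n)) := Nat.card_pos
  have : Nat.card ↥(R_quot E W hW).π.ker * Nat.card ↥W * Nat.card (alternatingGroup (Fin n)) =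
      Nat.card ↥E.π.ker * Nat.card (alternatingGroup (Fin n)) := by
    rw [h1, h3, ← h2]
    ring
  exact Nat.eq_of_mul_eq_mul_right hpos this

theorem R_aux {n : ℕ} (m : ℕ) : ∀ (Γ : Type u) [Group Γ] [Finite Γ] (E : Stem n Γ),
    Nat.card ↥E.π.ker = m → 2 < m →
    ∃ (Γ' : Type u) (_ : Group Γ') (_ : Finite Γ') (E' : Stem n Γ'),
      Nat.card ↥E'.π.ker = 4 ∨ ((Nat.card ↥E'.π.ker).Prime ∧ Nat.card ↥E'.π.ker ≠ 2) := by
  induction' m using Nat.strong_induction_on with m ih
  intro Γ _ _ E hm h2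
  by_cases hex : ∃ W : Subgroup Γ, W ≤ E.π.ker ∧ 2 ≤ Nat.card ↥W ∧ 2 * Nat.card ↥W < m
  · obtain ⟨W, hWle, hW2, hWm⟩ := hex
    haveI : W.Normal := R_normal_of_le_center W (hWle.trans E.central)
    have hc := R_card_quot E W hWle
    rw [hm] at hc
    have hlt : Nat.card ↥(R_quot E W hWle).π.ker < m := by
      have hpos : 0 < Nat.card ↥(R_quot E W hWle).π.ker := Nat.card_pos
      nlinarith
    have hgt : 2 < Nat.card ↥(R_quot E W hWle).π.ker := by
      by_contra hcon
      push Not at hcon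
      nlinarith
    exact ih _ hlt (Γ ⧸ W) (R_quot E W hWle) rfl hgt
  · push Not at hex
    refine ⟨Γ, inferInstance, inferInstance, E, ?_⟩
    rw [hm]
    have hm1 : m ≠ 1 := by omega
    have hp : (Nat.minFac m).Prime := Nat.minFac_prime hm1
    haveI : Fact (Nat.minFac m).Prime := ⟨hp⟩
    have hdvd : Nat.minFac m ∣ Nat.card ↥E.π.ker := by
      rw [hm]; exact Nat.minFac_dvd m
    obtain ⟨z, hz⟩ := exists_prime_orderOf_dvd_card' (Nat.minFac m) hdvd
    have hzcard : Nat.card ↥(Subgroup.zpowers (z : Γ)) = Nat.minFac m := by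
      rw [Nat.card_zpowers, Subgroup.orderOf_coe, hz]
    have hzle : Subgroup.zpowers (z : Γ) ≤ E.π.ker := by
      rw [Subgroup.zpowers_le]
      exact z.2
    have h3 := hex (Subgroup.zpowers (z : Γ)) hzle (by rw [hzcard]; exact hp.two_le)
    rw [hzcard] at h3
    have hmin : ∀ q : ℕ, 2 ≤ q → q ∣ m → Nat.minFac m ≤ q := fun q hq hqm =>
      Nat.minFac_le_of_dvd hq hqm
    have hdm : Nat.minFac m ∣ m := Nat.minFac_dvd m
    generalize Nat.minFac m = p at hp h3 hmin hdm
    obtain ⟨k, hk⟩ := hdm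
    have hk1 : 1 ≤ k := by
      rcases Nat.eq_zero_or_pos k with h0 | h0
      · rw [h0, mul_zero] at hk; omega
      · exact h0
    have hk2 : k ≤ 2 := by
      by_contra hcon
      push Not at hcon
      have : 3 * p ≤ m := by
        calc 3 * p ≤ k * p := Nat.mul_le_mul_right _ hcon
          _ = m := by rw [hk, mul_comm]
      have := hp.two_le
      omega
    have hkk : k = 1 ∨ k = 2 := by omega
    rcases hkk with rfl | rfl
    · right
      rw [mul_one] at hk
      subst hk
      exact ⟨hp, by omega⟩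
    · left
      have h2m : 2 ∣ m := ⟨p, by rw [hk, mul_comm]⟩
      have hle : p ≤ 2 := hmin 2 (le_refl 2) h2m
      have := hp.two_le
      have hp2 : p = 2 := by omega
      rw [hk, hp2]

theorem reduce {n : ℕ} {Γ : Type u} [Group Γ] [Finite Γ] (E : Stem n Γ)
    (h : 2 < Nat.card ↥E.π.ker) :
    ∃ (Γ' : Type u) (_ : Group Γ') (_ : Finite Γ') (E' : Stem n Γ'),
      Nat.card ↥E'.π.ker = 4 ∨ ((Nat.card ↥E'.π.ker).Prime ∧ Nat.card ↥E'.π.ker ≠ 2) :=
  R_aux _ Γ E rfl h

end Cfsg.Agent.S0892L
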