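import Cfsg.Agent.Lib.S0892.Defs
import Cfsg.Agent.Lib.S0892.Reduce

set_option autoImplicit false
open Equiv Equiv.Perm

namespace Cfsg.Agent.S0892L

/-! # S0892 piece P4 : `n = 4`, the kernel has no order 3 (transfer into a Sylow 3-subgroup) (lead) -/

theorem P4_card_alt : Nat.card (alternatingGroup (Fin 4)) = 12 := by
  rw [nat_card_alternatingGroup, Nat.card_eq_fintype_card, Fintype.card_fin]
  decide

open scoped IsMulCommutative in
/-- a central element of the commutator subgroup is killed by the index of every abelian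
subgroup of finite index (transfer). -/
theorem P4_pow_index_eq_one {G : Type*} [Group G] (H : Subgroup G) [H.FiniteIndex]
    [IsMulCommutative H] (z : G) (hz : z ∈ Subgroup.center G) (hz' : z ∈ commutator G) :
    z ^ H.index = 1 := by
  have key : ∀ (k : ℕ) (g₀ : G), g₀⁻¹ * z ^ k * g₀ ∈ H → g₀⁻¹ * z ^ k * g₀ = z ^ k := by
    intro k g₀ _
    have hc : z ^ k ∈ Subgroup.center G := Subgroup.pow_mem _ hz k
    rw [Subgroup.mem_center_iff] at hc
    rw [mul_assoc, ← hc g₀, inv_mul_cancel_left]
  have h1 := MonoidHom.transfer_eq_pow (MonoidHom.id H) z key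
  have h2 : MonoidHom.transfer (MonoidHom.id H) z = 1 :=
    Abelianization.commutator_subset_ker (MonoidHom.transfer (MonoidHom.id H)) hz'
  rw [h2] at h1
  have h3 := congrArg Subtype.val h1
  simpa using h3.symm

theorem four_card_ne_three {Γ : Type*} [Group Γ] [Finite Γ] (E : Stem 4 Γ) :
    Nat.card ↥E.π.ker ≠ 3 := by
  intro h3
  haveI : Fact (Nat.Prime 3) := ⟨Nat.prime_three⟩
  have hΓ : Nat.card Γ = 36 := by rw [← R_card E, h3, P4_card_alt]
  let P : Sylow 3 Γ := default
  have hidx : ¬ 3 ∣ (P : Subgroup Γ).index := P.not_dvd_index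
  have hmul : Nat.card (P : Subgroup Γ) * (P : Subgroup Γ).index = 36 := by
    rw [Subgroup.card_mul_index, hΓ]
  obtain ⟨k, hk⟩ := IsPGroup.iff_card.1 P.2
  have hk2 : Nat.card (P : Subgroup Γ) = 3 ^ 2 := by
    rw [hk] at hmul ⊢
    have hpos : 0 < (P : Subgroup Γ).index := by
      rcases Nat.eq_zero_or_pos (P : Subgroup Γ).index with h | h
      · rw [h] at hmul; omega
      · exact h
    have hk3 : k ≤ 3 := by
      by_contra hcon
      push Not at hcon
      have : 3 ^ 4 ≤ 3 ^ k := Nat.pow_le_pow_right (by norm_num) hcon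
      nlinarith
    interval_cases k
    · exfalso; apply hidx; omega
    · exfalso; apply hidx; omega
    · rfl
    · exfalso; omega
  haveI : IsMulCommutative (P : Subgroup Γ) :=
    IsPGroup.isMulCommutative_of_card_eq_prime_sq hk2
  have hone : ∀ z ∈ E.π.ker, z = 1 := by
    intro z hz
    have h1 : z ^ (P : Subgroup Γ).index = 1 :=
      P4_pow_index_eq_one _ z (E.central hz) (E.stem hz)
    have h2 : z ^ 3 = 1 := by
      have := pow_card_eq_one' (G := E.π.ker) (x := ⟨z, hz⟩)
      rw [h3] at this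
      exact congrArg Subtype.val this
    have hcop : Nat.gcd (P : Subgroup Γ).index 3 = 1 :=
      Nat.Coprime.symm ((Nat.Prime.coprime_iff_not_dvd Nat.prime_three).2 hidx)
    have := pow_gcd_eq_one.2 ⟨h1, h2⟩
    rwa [hcop, pow_one] at this
  have hbot : E.π.ker = ⊥ := (Subgroup.eq_bot_iff_forall _).2 hone
  rw [hbot] at h3
  simp at h3

end Cfsg.Agent.S0892L
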