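import Mathlib
import Cfsg.Agent.Lib.S0892.Defs

set_option autoImplicit false
open Equiv Equiv.Perm

namespace Cfsg.Agent.S0892L

/-- `cyc hn i` is a 3-cycle for `2 ≤ i`. -/
theorem S1_cyc_isThreeCycle {n : ℕ} (hn : 4 ≤ n) (i : Fin n) (hi : 2 ≤ i.val) :
    IsThreeCycle (cyc hn i) := by
  have h01 : (⟨1, by omega⟩ : Fin n) ≠ ⟨0, by omega⟩ := by
    intro h; simp [Fin.ext_iff] at h
  have h1i : (⟨1, by omega⟩ : Fin n) ≠ i := by
    intro h; rw [Fin.ext_iff] at h; simp at h; omega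
  have h0i : (⟨0, by omega⟩ : Fin n) ≠ i := by
    intro h; rw [Fin.ext_iff] at h; simp at h; omega
  have : cyc hn i = swap (⟨1, by omega⟩ : Fin n) ⟨0, by omega⟩ * swap (⟨1, by omega⟩ : Fin n) i := by
    unfold cyc
    rw [swap_comm]
  rw [this]
  exact isThreeCycle_swap_mul_swap_same h01 h1i h0i

/-- conjugates of 3-cycles are 3-cycles. -/
theorem S1_isThreeCycle_conj {α : Type*} [Fintype α] [DecidableEq α] {f : Perm α}
    (h : IsThreeCycle f) (g : Perm α) : IsThreeCycle (g * f * g⁻¹) := by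
  unfold IsThreeCycle at h ⊢
  rw [cycleType_conj]
  exact h

/-- an element of a group of order prime to 3 whose cube is 1 is trivial. -/
theorem S1_eq_one_of_cube {Z : Type*} [Group Z] [Finite Z] (hcop : (Nat.card Z).Coprime 3)
    (z : Z) (hz : z ^ 3 = 1) : z = 1 := by
  have h1 : orderOf z ∣ 3 := orderOf_dvd_of_pow_eq_one hz
  have h2 : orderOf z ∣ Nat.card Z := orderOf_dvd_natCard z
  have h3 : orderOf z ∣ Nat.gcd (Nat.card Z) 3 := Nat.dvd_gcd h2 h1
  rw [hcop] at h3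
  exact orderOf_eq_one_iff.mp (Nat.dvd_one.mp h3)

theorem goodSet_of_coprime {n : ℕ} (hn : 4 ≤ n) {Γ : Type*} [Group Γ] [Finite Γ] (E : Stem n Γ)
    (hcop : (Nat.card ↥E.π.ker).Coprime 3) : ∃ S : Set Γ, GoodSet hn E S := by
  classical
  refine ⟨{s | s ^ 3 = 1 ∧ IsThreeCycle ((E.π s : alternatingGroup (Fin n)) : Perm (Fin n))}, ?_⟩
  refine ⟨fun s hs => hs.1, ?_, ?_, ?_, ?_⟩
  · -- inj
    rintro s ⟨hs3, -⟩ s' ⟨hs'3, -⟩ hπ
    have hzker : s⁻¹ * s' ∈ E.π.ker := by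
      rw [MonoidHom.mem_ker, map_mul, map_inv, hπ, inv_mul_cancel]
    have hzc : s⁻¹ * s' ∈ Subgroup.center Γ := E.central hzker
    have hcomm : Commute s (s⁻¹ * s') := (Subgroup.mem_center_iff.mp hzc s)
    have h1 : (s * (s⁻¹ * s')) ^ 3 = s ^ 3 * (s⁻¹ * s') ^ 3 := hcomm.mul_pow 3
    have h2 : s * (s⁻¹ * s') = s' := by group
    rw [h2, hs'3, hs3, one_mul] at h1
    have hz1 : (⟨s⁻¹ * s', hzker⟩ : ↥E.π.ker) = 1 := by
      apply S1_eq_one_of_cube hcop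
      apply Subtype.ext
      rw [Subgroup.coe_pow, Subgroup.coe_one]
      exact h1.symm
    have hz1' : s⁻¹ * s' = 1 := congrArg Subtype.val hz1
    calc s = s * 1 := (mul_one s).symm
      _ = s * (s⁻¹ * s') := by rw [hz1']
      _ = s' := h2
  · -- conj
    rintro s ⟨hs3, hs⟩ g
    refine ⟨?_, ?_⟩
    · rw [conj_pow, hs3, mul_one, mul_inv_cancel]
    · rw [map_mul, map_mul, map_inv]
      exact S1_isThreeCycle_conj hs _
  · -- inv
    rintro s ⟨hs3, hs⟩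
    refine ⟨by rw [inv_pow, hs3, inv_one], ?_⟩
    rw [map_inv]
    exact hs.inv
  · -- lift
    intro i hi
    have h3c := S1_cyc_isThreeCycle hn i hi
    obtain ⟨g, hg⟩ := E.surj ⟨cyc hn i, h3c.mem_alternatingGroup⟩
    have hg3 : g ^ 3 ∈ E.π.ker := by
      rw [MonoidHom.mem_ker, map_pow, hg]
      apply Subtype.ext
      rw [Subgroup.coe_pow, Subgroup.coe_one]
      show cyc hn i ^ 3 = 1
      rw [← h3c.orderOf]
      exact pow_orderOf_eq_one _
    let z : ↥E.π.ker := (powCoprime hcop).symm ⟨(g ^ 3)⁻¹, E.π.ker.inv_mem hg3⟩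
    have hz3 : z ^ 3 = ⟨(g ^ 3)⁻¹, E.π.ker.inv_mem hg3⟩ := by
      have := (powCoprime hcop).apply_symm_apply ⟨(g ^ 3)⁻¹, E.π.ker.inv_mem hg3⟩
      exact this
    have hz3' : (z : Γ) ^ 3 = (g ^ 3)⁻¹ := by
      have := congrArg Subtype.val hz3
      simpa using this
    have hzc : (z : Γ) ∈ Subgroup.center Γ := E.central z.2
    have hcomm : Commute g (z : Γ) := (Subgroup.mem_center_iff.mp hzc g)
    refine ⟨g * z, ⟨?_, ?_⟩, ?_⟩
    · rw [hcomm.mul_pow, hz3', mul_inv_cancel]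
    · rw [map_mul, (MonoidHom.mem_ker).mp z.2, mul_one, hg]
      exact h3c
    · rw [map_mul, (MonoidHom.mem_ker).mp z.2, mul_one, hg]

end Cfsg.Agent.S0892L
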