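import Mathlib
import Cfsg.Agent.Lib.S0892.Defs

set_option autoImplicit false
open Equiv Equiv.Perm

namespace Cfsg.Agent.S0892L

/-- S3a (`Good3a.lean`): every lift of a 3-cycle has cube 1 -/
theorem cube_eq_one_of_lift {n : ℕ} (hn : 5 ≤ n) {Γ : Type*} [Group Γ] [Finite Γ] (E : Stem n Γ)
    (h3 : Nat.card ↥E.π.ker = 3) (x : Γ)
    (hx : IsThreeCycle ((E.π x : alternatingGroup (Fin n)) : Perm (Fin n))) : x ^ 3 = 1 := by
  classical
  -- elements of the kernel have cube 1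
  have hker3 : ∀ z : Γ, z ∈ E.π.ker → z ^ 3 = 1 := by
    intro z hz
    have h := pow_card_eq_one' (G := ↥E.π.ker) (x := ⟨z, hz⟩)
    rw [h3] at h
    have := congrArg Subtype.val h
    simpa using this
  -- x³ lies in the kernel
  have hc3 : (E.π x) ^ 3 = 1 := by
    apply Subtype.ext
    rw [Subgroup.coe_pow, Subgroup.coe_one, ← hx.orderOf]
    exact pow_orderOf_eq_one _
  have hx3ker : x ^ 3 ∈ E.π.ker := by
    rw [MonoidHom.mem_ker, map_pow, hc3]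
  have hx3c : x ^ 3 ∈ Subgroup.center Γ := E.central hx3ker
  -- an element of A_n inverting π x
  have hconj : IsConj (E.π x) (E.π x)⁻¹ := by
    apply alternatingGroup.isThreeCycle_isConj (by simpa using hn) hx
    rw [Subgroup.coe_inv]
    exact hx.inv
  obtain ⟨t, ht⟩ := isConj_iff.mp hconj
  obtain ⟨g, hg⟩ := E.surj t
  -- y = g x g⁻¹ lifts (π x)⁻¹, as does x⁻¹
  have hzker : x * (g * x * g⁻¹) ∈ E.π.ker := by
    rw [MonoidHom.mem_ker, map_mul, map_mul, map_mul, map_inv, hg, ht, mul_inv_cancel]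
  have hzc : x * (g * x * g⁻¹) ∈ Subgroup.center Γ := E.central hzker
  have hz3 := hker3 _ hzker
  -- g x g⁻¹ = x⁻¹ z
  have hy : g * x * g⁻¹ = x⁻¹ * (x * (g * x * g⁻¹)) := by group
  have hcomm : Commute x⁻¹ (x * (g * x * g⁻¹)) := (Subgroup.mem_center_iff.mp hzc x⁻¹)
  have h1 : (g * x * g⁻¹) ^ 3 = (x⁻¹) ^ 3 := by
    conv_lhs => rw [hy]
    rw [hcomm.mul_pow, hz3, mul_one]
  -- but (g x g⁻¹)³ = g x³ g⁻¹ = x³
  have h2 : (g * x * g⁻¹) ^ 3 = x ^ 3 := by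
    rw [conj_pow]
    have := Subgroup.mem_center_iff.mp hx3c g
    rw [this, mul_assoc, mul_inv_cancel, mul_one]
  have h6 : x ^ 3 = (x ^ 3)⁻¹ := by
    rw [← inv_pow, ← h1, h2]
  have h9 := hker3 _ hx3ker
  -- (x³)² = 1 and (x³)³ = 1
  have hsq : (x ^ 3) ^ 2 = 1 := by
    rw [sq]
    nth_rewrite 2 [h6]
    exact mul_inv_cancel _
  calc x ^ 3 = (x ^ 3) ^ 3 * ((x ^ 3) ^ 2)⁻¹ := by group
    _ = 1 := by rw [h9, hsq, inv_one, mul_one]

end Cfsg.Agent.S0892L
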