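import Cfsg.Agent.Lib.S0892.Good3c
import Cfsg.Agent.Lib.S0892.Good3a

set_option autoImplicit false
open Equiv Equiv.Perm

namespace Cfsg.Agent.S0892L

theorem S3_conj_pow {Γ : Type*} [Group Γ] (g x : Γ) (k : ℕ) :
    (g * x * g⁻¹) ^ k = g * x ^ k * g⁻¹ := by
  induction k with
  | zero => simp
  | succ k ih => rw [pow_succ, ih, pow_succ]; group

/-- S3: the good set when the kernel has order 3 -/
theorem goodSet_of_card_three {n : ℕ} (hn : 4 ≤ n) (h5 : n = 5 ∨ 8 ≤ n) {Γ : Type*} [Group Γ]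
    [Finite Γ] (E : Stem n Γ) (h3 : Nat.card ↥E.π.ker = 3) : ∃ S : Set Γ, GoodSet hn E S := by
  have hn5 : 5 ≤ n := by omega
  have hc0 : cyc hn ⟨2, by omega⟩ ∈ alternatingGroup (Fin n) := PF_cyc_mem hn _ (le_refl 2)
  obtain ⟨x, hx⟩ := E.surj ⟨cyc hn ⟨2, by omega⟩, hc0⟩
  obtain ⟨g₀, hg₀⟩ := E.surj ⟨_, PF_inv_mem hn5⟩
  have hxc : ((E.π x : alternatingGroup (Fin n)) : Perm (Fin n)) = cyc hn ⟨2, by omega⟩ := by
    rw [hx]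
  -- `ζ := x * (g₀ x g₀⁻¹)` lies in the kernel
  obtain ⟨ζ, hζ⟩ : ∃ ζ : Γ, ζ = x * (g₀ * x * g₀⁻¹) := ⟨_, rfl⟩
  have hζker : ζ ∈ E.π.ker := by
    rw [MonoidHom.mem_ker]
    apply Subtype.ext
    rw [hζ, map_mul, map_mul, map_mul, map_inv]
    simp only [Subgroup.coe_mul, Subgroup.coe_inv, Subgroup.coe_one]
    rw [hxc, hg₀]
    simp only []
    rw [PF_inv_cyc hn5, mul_inv_cancel]
  have hζc : ∀ y : Γ, y * ζ = ζ * y := fun y => Subgroup.mem_center_iff.1 (E.central hζker) y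
  have hζ3 : ζ ^ 3 = 1 := by
    have := pow_card_eq_one' (G := ↥E.π.ker) (x := ⟨ζ, hζker⟩)
    rw [h3] at this
    have := congrArg Subtype.val this
    simpa using this
  obtain ⟨x₀, hx₀⟩ : ∃ x₀ : Γ, x₀ = x * ζ := ⟨_, rfl⟩
  have hx₀c : ((E.π x₀ : alternatingGroup (Fin n)) : Perm (Fin n)) = cyc hn ⟨2, by omega⟩ := by
    rw [hx₀, map_mul, MonoidHom.mem_ker.1 hζker, mul_one, hxc]
  -- `g₀` inverts `x₀`
  have hinv : g₀ * x₀ * g₀⁻¹ = x₀⁻¹ := by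
    have h1 : g₀ * x * g₀⁻¹ = x⁻¹ * ζ := by rw [hζ]; group
    have h2 : g₀ * ζ * g₀⁻¹ = ζ := by rw [hζc g₀, mul_assoc, mul_inv_cancel, mul_one]
    have h4 : ζ⁻¹ = ζ * ζ := by
      apply inv_eq_of_mul_eq_one_right
      rw [← mul_assoc, ← pow_two, ← pow_succ]
      exact hζ3
    calc g₀ * x₀ * g₀⁻¹ = (g₀ * x * g₀⁻¹) * (g₀ * ζ * g₀⁻¹) := by rw [hx₀]; group
      _ = x⁻¹ * ζ * ζ := by rw [h1, h2]
      _ = x⁻¹ * (ζ * ζ) := by group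
      _ = x⁻¹ * ζ⁻¹ := by rw [h4]
      _ = ζ⁻¹ * x⁻¹ := by
          have := hζc x
          calc x⁻¹ * ζ⁻¹ = (ζ * x)⁻¹ := by rw [mul_inv_rev]
            _ = (x * ζ)⁻¹ := by rw [this]
            _ = ζ⁻¹ * x⁻¹ := by rw [mul_inv_rev]
      _ = x₀⁻¹ := by rw [hx₀, mul_inv_rev]
  have hx₀3 : x₀ ^ 3 = 1 :=
    cube_eq_one_of_lift hn5 E h3 x₀ (by rw [hx₀c]; exact PF_cyc_isThreeCycle hn _ (le_refl 2))
  refine ⟨{s | ∃ g : Γ, s = g * x₀ * g⁻¹}, ?_, ?_, ?_, ?_, ?_⟩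
  · -- cube
    rintro s ⟨g, rfl⟩
    rw [S3_conj_pow, hx₀3, mul_one, mul_inv_cancel]
  · -- inj
    rintro s ⟨g, rfl⟩ s' ⟨g', rfl⟩ h
    have hcomm : E.π (g⁻¹ * g') * E.π x₀ = E.π x₀ * E.π (g⁻¹ * g') := by
      have h' : E.π g * E.π x₀ * (E.π g)⁻¹ = E.π g' * E.π x₀ * (E.π g')⁻¹ := by
        simpa [map_mul, map_inv] using h
      rw [map_mul, map_inv]
      calc (E.π g)⁻¹ * E.π g' * E.π x₀
          = (E.π g)⁻¹ * (E.π g' * E.π x₀ * (E.π g')⁻¹) * E.π g' := by group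
        _ = (E.π g)⁻¹ * (E.π g * E.π x₀ * (E.π g)⁻¹) * E.π g' := by rw [h']
        _ = E.π x₀ * ((E.π g)⁻¹ * E.π g') := by group
    have := centralizer_lift hn h5 E h3 x₀ hx₀c (g⁻¹ * g') hcomm
    calc g * x₀ * g⁻¹ = g * (x₀ * (g⁻¹ * g')) * g'⁻¹ := by group
      _ = g * ((g⁻¹ * g') * x₀) * g'⁻¹ := by rw [this]
      _ = g' * x₀ * g'⁻¹ := by group
  · -- conj
    rintro s ⟨g, rfl⟩ k
    exact ⟨k * g, by group⟩
  · -- inv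
    rintro s ⟨g, rfl⟩
    refine ⟨g * g₀, ?_⟩
    calc (g * x₀ * g⁻¹)⁻¹ = g * x₀⁻¹ * g⁻¹ := by group
      _ = g * (g₀ * x₀ * g₀⁻¹) * g⁻¹ := by rw [hinv]
      _ = g * g₀ * x₀ * (g * g₀)⁻¹ := by group
  · -- lift
    intro i hi
    by_cases hi2 : i = ⟨2, by omega⟩
    · refine ⟨x₀, ⟨1, by group⟩, ?_⟩
      rw [hx₀c, hi2]
    · have hne : (⟨2, by omega⟩ : Fin n) ≠ i := fun e => hi2 e.symm
      obtain ⟨g, hg⟩ := E.surj ⟨_, C_flip_mem (⟨2, by omega⟩ : Fin n) i hn hne⟩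
      refine ⟨(g * x₀ * g⁻¹)⁻¹, ⟨g * g₀, ?_⟩, ?_⟩
      · calc (g * x₀ * g⁻¹)⁻¹ = g * x₀⁻¹ * g⁻¹ := by group
          _ = g * (g₀ * x₀ * g₀⁻¹) * g⁻¹ := by rw [hinv]
          _ = g * g₀ * x₀ * (g * g₀)⁻¹ := by group
      · rw [map_inv, map_mul, map_mul, map_inv]
        simp only [Subgroup.coe_mul, Subgroup.coe_inv]
        rw [hx₀c, hg]
        simp only []
        rw [C_flip_cyc hn ⟨2, by omega⟩ i (le_refl 2) hi, inv_inv]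

end Cfsg.Agent.S0892L
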