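import Cfsg.Agent.Lib.S0892.Defs

/-!
# S0892, piece S3b: lifts of disjoint 3-cycles commute (`n ≥ 8`, `|Z| = 3`)
-/

set_option autoImplicit false
open Equiv Equiv.Perm

namespace Cfsg.Agent.S0892L

theorem S3b_comm_aux {Γ : Type*} [Group Γ] {a b z z' : Γ} (hz : z ∈ Subgroup.center Γ)
    (hz' : z' ∈ Subgroup.center Γ) :
    a * z * (b * z') * (a * z)⁻¹ * (b * z')⁻¹ = a * b * a⁻¹ * b⁻¹ := by
  rw [Subgroup.mem_center_iff] at hz hz'
  have h1 : a * z * (b * z') = a * b * (z * z') := by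
    calc a * z * (b * z') = a * (z * b) * z' := by group
      _ = a * (b * z) * z' := by rw [← hz b]
      _ = a * b * (z * z') := by group
  have h2 : b * z' * (a * z) = b * a * (z * z') := by
    calc b * z' * (a * z) = b * (z' * a) * z := by group
      _ = b * (a * z') * z := by rw [← hz' a]
      _ = b * a * (z' * z) := by group
      _ = b * a * (z * z') := by rw [hz z']
  calc a * z * (b * z') * (a * z)⁻¹ * (b * z')⁻¹
      = (a * z * (b * z')) * (b * z' * (a * z))⁻¹ := by group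
    _ = a * b * (z * z') * (b * a * (z * z'))⁻¹ := by rw [h1, h2]
    _ = a * b * a⁻¹ * b⁻¹ := by group

theorem S3b_sq_eq_one {Γ : Type*} [Group Γ] (x w g ζ ζ' : Γ) (hζ : ζ ∈ Subgroup.center Γ)
    (hζ' : ζ' ∈ Subgroup.center Γ) (hγ : x * w * x⁻¹ * w⁻¹ ∈ Subgroup.center Γ)
    (hgx : g * x * g⁻¹ = x⁻¹ * ζ) (hgw : g * w * g⁻¹ = w * ζ') :
    (x * w * x⁻¹ * w⁻¹) ^ 2 = 1 := by
  have hγ' := hγ
  rw [Subgroup.mem_center_iff] at hγ'
  have h1 : g * (x * w * x⁻¹ * w⁻¹) * g⁻¹ = x * w * x⁻¹ * w⁻¹ := by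
    rw [hγ' g, mul_assoc, mul_inv_cancel, mul_one]
  have h2 : g * (x * w * x⁻¹ * w⁻¹) * g⁻¹ = x⁻¹ * w * x * w⁻¹ := by
    calc g * (x * w * x⁻¹ * w⁻¹) * g⁻¹
        = (g * x * g⁻¹) * (g * w * g⁻¹) * (g * x * g⁻¹)⁻¹ * (g * w * g⁻¹)⁻¹ := by group
      _ = x⁻¹ * ζ * (w * ζ') * (x⁻¹ * ζ)⁻¹ * (w * ζ')⁻¹ := by rw [hgx, hgw]
      _ = x⁻¹ * w * x⁻¹⁻¹ * w⁻¹ := S3b_comm_aux hζ hζ'
      _ = x⁻¹ * w * x * w⁻¹ := by rw [inv_inv]
  have hγinv : (x * w * x⁻¹ * w⁻¹)⁻¹ ∈ Subgroup.center Γ := Subgroup.inv_mem _ hγ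
  rw [Subgroup.mem_center_iff] at hγinv
  have h3 : x⁻¹ * w * x * w⁻¹ = (x * w * x⁻¹ * w⁻¹)⁻¹ := by
    calc x⁻¹ * w * x * w⁻¹ = x⁻¹ * (x * w * x⁻¹ * w⁻¹)⁻¹ * x := by group
      _ = (x * w * x⁻¹ * w⁻¹)⁻¹ * x⁻¹ * x := by rw [hγinv x⁻¹]
      _ = (x * w * x⁻¹ * w⁻¹)⁻¹ := by group
  have h4 : x * w * x⁻¹ * w⁻¹ = (x * w * x⁻¹ * w⁻¹)⁻¹ := h1.symm.trans (h2.trans h3)
  rw [pow_two]
  nth_rewrite 2 [h4]
  exact mul_inv_cancel _

theorem S3b_swap_comm {α : Type*} [DecidableEq α] (τ : Perm α) {e f : α} (he : τ e = e)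
    (hf : τ f = f) : swap e f * τ = τ * swap e f := by
  rw [Equiv.mul_swap_eq_swap_mul, he, hf]

/-- pure permutations: an even permutation inverting `σ` and centralizing `τ` -/
theorem S3b_exists_perm {n : ℕ} (hn : 8 ≤ n) (σ τ : Perm (Fin n)) (hσ : IsThreeCycle σ)
    (hτ : IsThreeCycle τ) (hd : Disjoint σ τ) :
    ∃ t : Perm (Fin n), t ∈ alternatingGroup (Fin n) ∧ t * σ * t⁻¹ = σ⁻¹ ∧ t * τ * t⁻¹ = τ := by
  -- two points off both supports
  have hcard : 1 < (Finset.univ \ (σ.support ∪ τ.support)).card := by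
    have h1 : (σ.support ∪ τ.support).card ≤ 6 := by
      refine le_trans (Finset.card_union_le _ _) ?_
      rw [hσ.card_support, hτ.card_support]
    have h2 : (Finset.univ \ (σ.support ∪ τ.support)).card
        = Fintype.card (Fin n) - (σ.support ∪ τ.support).card := Finset.card_univ_sdiff _
    rw [h2, Fintype.card_fin]
    omega
  obtain ⟨e, he, f, hf, hef⟩ := Finset.one_lt_card.1 hcard
  simp only [Finset.mem_sdiff, Finset.mem_univ, Finset.mem_union, true_and, not_or,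
    Perm.mem_support, not_not] at he hf
  obtain ⟨hσe, hτe⟩ := he
  obtain ⟨hσf, hτf⟩ := hf
  -- the 3-cycle `σ`
  obtain ⟨a, ha⟩ : σ.support.Nonempty := by
    rw [← Finset.card_pos, hσ.card_support]; norm_num
  have hnd := hσ.nodup_iff_mem_support.2 ha
  have hσeq := hσ.eq_swap_mul_swap_iff_mem_support.2 ha
  have hb : σ a ∈ σ.support := Perm.apply_mem_support.2 ha
  have hc : σ (σ a) ∈ σ.support := Perm.apply_mem_support.2 hb
  have hτb : τ (σ a) = σ a := (hd (σ a)).resolve_left (Perm.mem_support.1 hb)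
  have hτc : τ (σ (σ a)) = σ (σ a) := (hd (σ (σ a))).resolve_left (Perm.mem_support.1 hc)
  have hbc : σ a ≠ σ (σ a) := by
    simp only [List.nodup_cons, List.mem_cons, not_or, List.not_mem_nil,
      not_false_eq_true, List.nodup_nil, and_true] at hnd
    exact hnd.2
  generalize σ a = b at *
  generalize σ b = c at *
  refine ⟨swap b c * swap e f, ?_, ?_, ?_⟩
  · rw [Perm.mem_alternatingGroup, Perm.sign_mul, sign_swap hbc, sign_swap hef]
    decide
  · have h1 : swap e f * σ = σ * swap e f := S3b_swap_comm σ hσe hσf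
    have h2 : swap b c * swap e f * σ * (swap b c * swap e f)⁻¹ = swap b c * σ * swap b c := by
      rw [mul_inv_rev, swap_inv, swap_inv, mul_assoc (swap b c) (swap e f) σ, h1]
      simp only [mul_assoc]
      rw [← mul_assoc (swap e f) (swap e f), swap_mul_self, one_mul]
    rw [h2]
    have h3 : σ⁻¹ = swap b c * swap a b := by
      rw [hσeq, mul_inv_rev, swap_inv, swap_inv]
    rw [h3]
    nth_rewrite 1 [hσeq]
    rw [← mul_assoc, mul_assoc (swap b c * swap a b), swap_mul_self, mul_one]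
  · have h1 : swap e f * τ = τ * swap e f := S3b_swap_comm τ hτe hτf
    have h2 : swap b c * τ = τ * swap b c := S3b_swap_comm τ hτb hτc
    have h3 : swap b c * swap e f * τ = τ * (swap b c * swap e f) := by
      rw [mul_assoc, h1, ← mul_assoc, h2, mul_assoc]
    rw [h3, mul_assoc, mul_inv_cancel, mul_one]

theorem lifts_commute_of_disjoint {n : ℕ} (hn : 8 ≤ n) {Γ : Type*} [Group Γ] [Finite Γ]
    (E : Stem n Γ) (h3 : Nat.card ↥E.π.ker = 3) (x w : Γ)
    (hx : IsThreeCycle ((E.π x : alternatingGroup (Fin n)) : Perm (Fin n)))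
    (hw : IsThreeCycle ((E.π w : alternatingGroup (Fin n)) : Perm (Fin n)))
    (hd : Disjoint ((E.π x : alternatingGroup (Fin n)) : Perm (Fin n))
      ((E.π w : alternatingGroup (Fin n)) : Perm (Fin n))) : x * w = w * x := by
  obtain ⟨t, ht, htσ, htτ⟩ := S3b_exists_perm hn _ _ hx hw hd
  obtain ⟨g, hg⟩ := E.surj ⟨t, ht⟩
  have hgc : ((E.π g : alternatingGroup (Fin n)) : Perm (Fin n)) = t := by rw [hg]
  have hζ : x * (g * x * g⁻¹) ∈ E.π.ker := by
    rw [MonoidHom.mem_ker]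
    apply Subtype.ext
    simp only [map_mul, map_inv, Subgroup.coe_mul, Subgroup.coe_inv, Subgroup.coe_one, hgc]
    rw [htσ, mul_inv_cancel]
  have hζ' : w⁻¹ * (g * w * g⁻¹) ∈ E.π.ker := by
    rw [MonoidHom.mem_ker]
    apply Subtype.ext
    simp only [map_mul, map_inv, Subgroup.coe_mul, Subgroup.coe_inv, Subgroup.coe_one, hgc]
    rw [htτ, inv_mul_cancel]
  have hγ : x * w * x⁻¹ * w⁻¹ ∈ E.π.ker := by
    rw [MonoidHom.mem_ker]
    apply Subtype.ext
    simp only [map_mul, map_inv, Subgroup.coe_mul, Subgroup.coe_inv, Subgroup.coe_one]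
    rw [hd.commute.eq]
    group
  have hsq : (x * w * x⁻¹ * w⁻¹) ^ 2 = 1 :=
    S3b_sq_eq_one x w g _ _ (E.central hζ) (E.central hζ') (E.central hγ) (by group) (by group)
  have hcube : (x * w * x⁻¹ * w⁻¹) ^ 3 = 1 := by
    have := pow_card_eq_one' (G := ↥E.π.ker) (x := ⟨_, hγ⟩)
    rw [h3] at this
    exact congrArg Subtype.val this
  have hone : x * w * x⁻¹ * w⁻¹ = 1 := by
    have : (x * w * x⁻¹ * w⁻¹) ^ 3 = (x * w * x⁻¹ * w⁻¹) ^ 2 * (x * w * x⁻¹ * w⁻¹) := pow_succ _ 2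
    rw [hcube, hsq, one_mul] at this
    exact this.symm
  calc x * w = (x * w * x⁻¹ * w⁻¹) * (w * x) := by group
    _ = w * x := by rw [hone, one_mul]

end Cfsg.Agent.S0892L
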