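import Cfsg.Agent.Lib.S0892.Defs

set_option autoImplicit false
open Equiv Equiv.Perm

namespace Cfsg.Agent.S0892L

theorem S3p_c0_zero {n : ℕ} (hn : 4 ≤ n) :
    cyc hn ⟨2, by omega⟩ ⟨0, by omega⟩ = ⟨1, by omega⟩ := by
  unfold cyc
  have h1 : swap (⟨1, by omega⟩ : Fin n) ⟨2, by omega⟩ ⟨0, by omega⟩ = ⟨0, by omega⟩ := by
    apply swap_apply_of_ne_of_ne
    · intro h; have := congrArg Fin.val h; simp at this
    · intro h; have := congrArg Fin.val h; simp at this
  rw [Perm.mul_apply, h1, swap_apply_left]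

theorem S3p_c0_one {n : ℕ} (hn : 4 ≤ n) :
    cyc hn ⟨2, by omega⟩ ⟨1, by omega⟩ = ⟨2, by omega⟩ := by
  unfold cyc
  have h1 : swap (⟨0, by omega⟩ : Fin n) ⟨1, by omega⟩ ⟨2, by omega⟩ = ⟨2, by omega⟩ := by
    apply swap_apply_of_ne_of_ne
    · intro h; have := congrArg Fin.val h; simp at this
    · intro h; have := congrArg Fin.val h; simp at this
  rw [Perm.mul_apply, swap_apply_left, h1]

theorem S3p_c0_two {n : ℕ} (hn : 4 ≤ n) :
    cyc hn ⟨2, by omega⟩ ⟨2, by omega⟩ = ⟨0, by omega⟩ := by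
  unfold cyc
  rw [Perm.mul_apply, swap_apply_right, swap_apply_right]

theorem S3p_c0_ge {n : ℕ} (hn : 4 ≤ n) (x : Fin n) (hx : 3 ≤ x.val) :
    cyc hn ⟨2, by omega⟩ x = x := by
  unfold cyc
  have h1 : swap (⟨1, by omega⟩ : Fin n) ⟨2, by omega⟩ x = x := by
    apply swap_apply_of_ne_of_ne
    · intro h; have := congrArg Fin.val h; simp at this; omega
    · intro h; have := congrArg Fin.val h; simp at this; omega
  have h2 : swap (⟨0, by omega⟩ : Fin n) ⟨1, by omega⟩ x = x := by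
    apply swap_apply_of_ne_of_ne
    · intro h; have := congrArg Fin.val h; simp at this; omega
    · intro h; have := congrArg Fin.val h; simp at this; omega
  rw [Perm.mul_apply, h1, h2]

theorem S3p_c0_three {n : ℕ} (hn : 4 ≤ n) : (cyc hn ⟨2, by omega⟩).IsThreeCycle := by
  unfold cyc
  rw [swap_comm (⟨0, by omega⟩ : Fin n) ⟨1, by omega⟩]
  apply isThreeCycle_swap_mul_swap_same
  · intro h; have := congrArg Fin.val h; simp at this
  · intro h; have := congrArg Fin.val h; simp at this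
  · intro h; have := congrArg Fin.val h; simp at this

/-- the generating set, inside `Perm (Fin n)` -/
def S3p_set {n : ℕ} (hn : 4 ≤ n) : Set (Perm (Fin n)) :=
  {d | d = cyc hn ⟨2, by omega⟩ ∨ (IsThreeCycle d ∧ Disjoint d (cyc hn ⟨2, by omega⟩))}

/-- an even permutation fixing `0, 1, 2` is a product of 3-cycles disjoint from `(0 1 2)` -/
theorem S3p_fix_mem {n : ℕ} (hn : 4 ≤ n) (τ : Perm (Fin n)) (hs : sign τ = 1)
    (h0 : τ ⟨0, by omega⟩ = ⟨0, by omega⟩) (h1 : τ ⟨1, by omega⟩ = ⟨1, by omega⟩)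
    (h2 : τ ⟨2, by omega⟩ = ⟨2, by omega⟩) : τ ∈ Subgroup.closure (S3p_set hn) := by
  have hfix : ∀ x : Fin n, x.val < 3 → τ x = x := by
    intro x hx
    have : x = ⟨0, by omega⟩ ∨ x = ⟨1, by omega⟩ ∨ x = ⟨2, by omega⟩ := by
      have : x.val = 0 ∨ x.val = 1 ∨ x.val = 2 := by omega
      rcases this with h | h | h
      · left; exact Fin.ext h
      · right; left; exact Fin.ext h
      · right; right; exact Fin.ext h
    rcases this with h | h | h
    · rw [h]; exact h0
    · rw [h]; exact h1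
    · rw [h]; exact h2
  have hp : ∀ x : Fin n, 3 ≤ (τ x).val ↔ 3 ≤ x.val := by
    intro x
    constructor
    · intro h
      by_contra hx
      rw [hfix x (by omega)] at h
      exact hx h
    · intro h
      by_contra hx
      have h3 := hfix (τ x) (by omega)
      have h4 : τ x = x := τ.injective h3
      rw [h4] at hx
      exact hx h
  have hmove : ∀ x : Fin n, τ x ≠ x → 3 ≤ x.val := by
    intro x hx
    by_contra h
    exact hx (hfix x (by omega))
  set τ' : Perm {x : Fin n // 3 ≤ x.val} :=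
    @subtypePerm (Fin n) (fun x : Fin n => 3 ≤ x.val) τ hp with hτ'
  have hof : ofSubtype τ' = τ :=
    @ofSubtype_subtypePerm (Fin n) (fun x : Fin n => 3 ≤ x.val) _ τ hp hmove
  have hsign : sign τ' = 1 := by
    have := @sign_subtypePerm (Fin n) _ _ τ (fun x : Fin n => 3 ≤ x.val) _ hp hmove
    rw [hs] at this
    exact this
  have hmem : τ' ∈ Subgroup.closure
      {d : Perm {x : Fin n // 3 ≤ x.val} | IsThreeCycle d} := by
    rw [closure_three_cycles_eq_alternating, mem_alternatingGroup]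
    exact hsign
  have hmap : ofSubtype τ' ∈
      (Subgroup.closure {d : Perm {x : Fin n // 3 ≤ x.val} | IsThreeCycle d}).map
        (ofSubtype : Perm {x : Fin n // 3 ≤ x.val} →* Perm (Fin n)) :=
    Subgroup.mem_map_of_mem _ hmem
  rw [hof, MonoidHom.map_closure] at hmap
  refine Subgroup.closure_mono ?_ hmap
  rintro d ⟨d', hd', rfl⟩
  right
  refine ⟨?_, ?_⟩
  · have : (ofSubtype d').cycleType = d'.cycleType := cycleType_ofSubtype
    unfold IsThreeCycle at hd' ⊢
    rw [this]; exact hd'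
  · intro x
    by_cases hx : 3 ≤ x.val
    · right; exact S3p_c0_ge hn x hx
    · left; exact ofSubtype_apply_of_not_mem d' hx

theorem S3p_perm {n : ℕ} (hn : 4 ≤ n) (σ : Perm (Fin n)) (hs : sign σ = 1)
    (hσ : σ * cyc hn ⟨2, by omega⟩ = cyc hn ⟨2, by omega⟩ * σ) :
    σ ∈ Subgroup.closure (S3p_set hn) := by
  set c0 := cyc hn ⟨2, by omega⟩ with hc0
  have hc0mem : c0 ∈ Subgroup.closure (S3p_set hn) := Subgroup.subset_closure (Or.inl rfl)
  have hc0s : sign c0 = 1 := (S3p_c0_three hn).sign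
  have hcomm : ∀ x, σ (c0 x) = c0 (σ x) := by
    intro x
    have := congrArg (fun f : Perm (Fin n) => f x) hσ
    simpa [Perm.mul_apply] using this
  -- reduce to a permutation fixing 0
  have key : ∀ τ : Perm (Fin n), sign τ = 1 → τ * c0 = c0 * τ →
      τ ⟨0, by omega⟩ = ⟨0, by omega⟩ → τ ∈ Subgroup.closure (S3p_set hn) := by
    intro τ hτs hτc hτ0
    have hcommτ : ∀ x, τ (c0 x) = c0 (τ x) := by
      intro x
      have := congrArg (fun f : Perm (Fin n) => f x) hτc
      simpa [Perm.mul_apply] using this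
    have hτ1 : τ ⟨1, by omega⟩ = ⟨1, by omega⟩ := by
      have := hcommτ ⟨0, by omega⟩
      rw [S3p_c0_zero hn, hτ0, S3p_c0_zero hn] at this
      exact this
    have hτ2 : τ ⟨2, by omega⟩ = ⟨2, by omega⟩ := by
      have := hcommτ ⟨1, by omega⟩
      rw [S3p_c0_one hn, hτ1, S3p_c0_one hn] at this
      exact this
    exact S3p_fix_mem hn τ hτs hτ0 hτ1 hτ2
  -- the image of 0 lies in {0,1,2}
  have ha : (σ ⟨0, by omega⟩).val < 3 := by
    by_contra h
    have h1 := hcomm ⟨0, by omega⟩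
    rw [S3p_c0_zero hn, S3p_c0_ge hn _ (by omega)] at h1
    have := σ.injective h1
    have := congrArg Fin.val this
    simp at this
  have hcases : (σ ⟨0, by omega⟩).val = 0 ∨ (σ ⟨0, by omega⟩).val = 1 ∨
      (σ ⟨0, by omega⟩).val = 2 := by omega
  rcases hcases with h | h | h
  · exact key σ hs hσ (Fin.ext h)
  · -- σ 0 = 1 : τ = c0⁻¹ σ
    have hτ : c0⁻¹ * σ ∈ Subgroup.closure (S3p_set hn) := by
      apply key
      · rw [Perm.sign_mul, Perm.sign_inv, hc0s, hs, one_mul]
      · calc c0⁻¹ * σ * c0 = c0⁻¹ * (σ * c0) := mul_assoc _ _ _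
          _ = c0⁻¹ * (c0 * σ) := by rw [hσ]
          _ = c0 * (c0⁻¹ * σ) := by group
      · rw [Perm.mul_apply, Perm.inv_eq_iff_eq, S3p_c0_zero hn]
        exact Fin.ext h
    have : σ = c0 * (c0⁻¹ * σ) := by group
    rw [this]
    exact Subgroup.mul_mem _ hc0mem hτ
  · -- σ 0 = 2 : τ = c0 σ  (c0 2 = 0)
    have hτ : c0 * σ ∈ Subgroup.closure (S3p_set hn) := by
      apply key
      · rw [Perm.sign_mul, hc0s, hs, one_mul]
      · rw [mul_assoc, hσ]
      · rw [Perm.mul_apply]
        have : σ ⟨0, by omega⟩ = ⟨2, by omega⟩ := Fin.ext h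
        rw [this, S3p_c0_two hn]
    have : σ = c0⁻¹ * (c0 * σ) := by group
    rw [this]
    exact Subgroup.mul_mem _ (Subgroup.inv_mem _ hc0mem) hτ

theorem centralizer_cyc_le_closure {n : ℕ} (hn : 4 ≤ n) (σ : alternatingGroup (Fin n))
    (hσ : (σ : Perm (Fin n)) * cyc hn ⟨2, by omega⟩ = cyc hn ⟨2, by omega⟩ * (σ : Perm (Fin n))) :
    σ ∈ Subgroup.closure {d : alternatingGroup (Fin n) |
      (d : Perm (Fin n)) = cyc hn ⟨2, by omega⟩ ∨
      (IsThreeCycle (d : Perm (Fin n)) ∧ Disjoint (d : Perm (Fin n)) (cyc hn ⟨2, by omega⟩))} := by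
  have hinj := (alternatingGroup (Fin n)).subtype_injective
  rw [← Subgroup.mem_map_iff_mem hinj, MonoidHom.map_closure]
  have himg : (alternatingGroup (Fin n)).subtype '' {d : alternatingGroup (Fin n) |
      (d : Perm (Fin n)) = cyc hn ⟨2, by omega⟩ ∨
      (IsThreeCycle (d : Perm (Fin n)) ∧ Disjoint (d : Perm (Fin n)) (cyc hn ⟨2, by omega⟩))} =
      S3p_set hn := by
    ext d
    constructor
    · rintro ⟨d', hd', rfl⟩
      exact hd'
    · intro hd
      have hmem : d ∈ alternatingGroup (Fin n) := by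
        rcases hd with rfl | ⟨h3, -⟩
        · exact (S3p_c0_three hn).mem_alternatingGroup
        · exact h3.mem_alternatingGroup
      exact ⟨⟨d, hmem⟩, hd, rfl⟩
  rw [himg]
  exact S3p_perm hn σ (mem_alternatingGroup.1 σ.2) hσ

end Cfsg.Agent.S0892L
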