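import Cfsg.Agent.Lib.S0892.Good3b
import Cfsg.Agent.Lib.S0892.Good3p
import Cfsg.Agent.Lib.S0892.PermFacts

set_option autoImplicit false
open Equiv Equiv.Perm

namespace Cfsg.Agent.S0892L

/-- S3c: whatever centralizes `(0 1 2)` mod `Z` centralizes each of its lifts -/
theorem centralizer_lift {n : ℕ} (hn : 4 ≤ n) (h5 : n = 5 ∨ 8 ≤ n) {Γ : Type*} [Group Γ]
    [Finite Γ] (E : Stem n Γ) (h3 : Nat.card ↥E.π.ker = 3) (x : Γ)
    (hx : ((E.π x : alternatingGroup (Fin n)) : Perm (Fin n)) = cyc hn ⟨2, by omega⟩) (g : Γ)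
    (hg : E.π g * E.π x = E.π x * E.π g) : g * x = x * g := by
  set D : Subgroup Γ := Subgroup.centralizer {x} with hD
  have hDmem : ∀ d : Γ, d ∈ D ↔ d * x = x * d := by
    intro d
    rw [hD, Subgroup.mem_centralizer_iff]
    constructor
    · intro h; exact (h x rfl).symm
    · intro h y hy; rw [Set.mem_singleton_iff] at hy; rw [hy]; exact h.symm
  have hc3 : IsThreeCycle ((E.π x : alternatingGroup (Fin n)) : Perm (Fin n)) := by
    rw [hx]; exact PF_cyc_isThreeCycle hn _ (le_refl 2)
  have hle : Subgroup.closure {d : alternatingGroup (Fin n) |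
      (d : Perm (Fin n)) = cyc hn ⟨2, by omega⟩ ∨
      (IsThreeCycle (d : Perm (Fin n)) ∧ Disjoint (d : Perm (Fin n)) (cyc hn ⟨2, by omega⟩))} ≤
      D.map E.π := by
    rw [Subgroup.closure_le]
    rintro d (hd | ⟨hd3, hdd⟩)
    · refine Subgroup.mem_map.2 ⟨x, (hDmem x).2 rfl, ?_⟩
      apply Subtype.ext
      rw [hx, hd]
    · obtain ⟨w, hw⟩ := E.surj d
      rcases h5 with h5 | h8
      · -- no room for two disjoint 3-cycles on 5 points
        exfalso
        have h1 := hdd.card_support_mul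
        have h2 : ((d : Perm (Fin n)) * cyc hn ⟨2, by omega⟩).support.card ≤ Fintype.card (Fin n) :=
          Finset.card_le_univ _
        rw [h1, hd3.card_support, (PF_cyc_isThreeCycle hn _ (le_refl 2)).card_support,
          Fintype.card_fin] at h2
        omega
      · refine Subgroup.mem_map.2 ⟨w, ?_, hw⟩
        rw [hDmem]
        have := lifts_commute_of_disjoint h8 E h3 x w hc3 (by rw [hw]; exact hd3)
          (by rw [hw, hx]; exact hdd.symm)
        exact this.symm
  have hσ : (E.π g : alternatingGroup (Fin n)) ∈ D.map E.π := by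
    apply hle
    apply centralizer_cyc_le_closure hn
    have := congrArg (fun a : alternatingGroup (Fin n) => (a : Perm (Fin n))) hg
    simp only [Subgroup.coe_mul] at this
    rw [hx] at this
    exact this
  obtain ⟨d, hdD, hdg⟩ := Subgroup.mem_map.1 hσ
  have hz : d⁻¹ * g ∈ E.π.ker := by
    rw [MonoidHom.mem_ker, map_mul, map_inv, hdg, inv_mul_cancel]
  have hzc : ∀ y : Γ, y * (d⁻¹ * g) = (d⁻¹ * g) * y :=
    fun y => Subgroup.mem_center_iff.1 (E.central hz) y
  have hdx := (hDmem d).1 hdD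
  calc g * x = d * ((d⁻¹ * g) * x) := by group
    _ = d * (x * (d⁻¹ * g)) := by rw [hzc x]
    _ = (d * x) * (d⁻¹ * g) := by group
    _ = (x * d) * (d⁻¹ * g) := by rw [hdx]
    _ = x * g := by group

end Cfsg.Agent.S0892L
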