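import Cfsg.Agent.Lib.S0892.Core
import Cfsg.Agent.Lib.S0892.Good1
import Cfsg.Agent.Lib.S0892.Good3
import Cfsg.Agent.Lib.S0892.Four
import Cfsg.Agent.Lib.S0892.Reduce

set_option autoImplicit false
open Equiv Equiv.Perm

namespace Cfsg.Agent.S0892L

universe u

theorem stem_card_le_two {n : ℕ} (hn : 4 ≤ n) (h6 : n ≠ 6) (h7 : n ≠ 7) {Γ : Type u} [Group Γ]
    [Finite Γ] (E : Stem n Γ) : Nat.card ↥E.π.ker ≤ 2 := by
  by_contra hcon
  push Not at hcon
  obtain ⟨Γ', _, _, E', hE'⟩ := reduce E hcon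
  have key : Nat.card ↥E'.π.ker ≤ 2 := by
    by_cases h3 : Nat.card ↥E'.π.ker = 3
    · by_cases h4 : n = 4
      · subst h4
        exact absurd h3 (four_card_ne_three E')
      · obtain ⟨S, hS⟩ := goodSet_of_card_three hn (by omega) E' h3
        exact card_ker_le_two hn E' S hS
    · have hcop : (Nat.card ↥E'.π.ker).Coprime 3 := by
        rcases hE' with h4 | ⟨hp, _⟩
        · rw [h4]; decide
        · exact (Nat.coprime_primes hp Nat.prime_three).2 h3
      obtain ⟨S, hS⟩ := goodSet_of_coprime hn E' hcop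
      exact card_ker_le_two hn E' S hS
  rcases hE' with h4 | ⟨hp, h2⟩
  · omega
  · have := hp.two_le
    omega

theorem main (n : ℕ) (hn : 4 ≤ n) (h6 : n ≠ 6) (h7 : n ≠ 7) {Γ : Type*} [Group Γ] [Finite Γ]
    (Z : Subgroup Γ) [Z.Normal] (hZc : Z ≤ Subgroup.center Γ) (hZd : Z ≤ commutator Γ)
    (e : Γ ⧸ Z ≃* alternatingGroup (Fin n)) : Nat.card Z ≤ 2 := by
  have hker : (e.toMonoidHom.comp (QuotientGroup.mk' Z)).ker = Z := by
    ext g
    simp
  let E : Stem n Γ :=
    { π := e.toMonoidHom.comp (QuotientGroup.mk' Z)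
      surj := e.surjective.comp (QuotientGroup.mk'_surjective Z)
      central := by rw [hker]; exact hZc
      stem := by rw [hker]; exact hZd }
  have := stem_card_le_two hn h6 h7 E
  have hk : E.π.ker = Z := hker
  rw [hk] at this
  exact this

end Cfsg.Agent.S0892L
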